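import Groth.Agent.PRed.K541.WeilPts
import Groth.Agent.Sga3B.Parab.AffPts998
import Mathlib.AlgebraicGeometry.Morphisms.Smooth
import Mathlib.AlgebraicGeometry.Pullbacks

/-!
# Weil restriction of affine schemes along a finite projective base change

`R` an `S`-scheme with natural bijections `e Y : (Y ⟶ R) ≃ (Y ×_S S' ⟶ X')`, `S = Spec B`,
`S' = Spec B'`, `X' ≅ Spec C`. If `ev : C → B' ⊗ W` is universal in the sense of `IsRep` then
`R ≅ Spec W` and the counit `R ×_S S' ⟶ X'` is `Spec ev`.
-/

set_option autoImplicit false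
universe u
open CategoryTheory AlgebraicGeometry Limits
open scoped TensorProduct

namespace K541.WeilSch

open K541.WeilAlg K541.WeilSmooth K541.WeilPts

section Basic

variable (B B' : Type u) [CommRing B] [CommRing B'] [Algebra B B']

/-- The morphism of base schemes. -/
noncomputable abbrev bm : Spec (CommRingCat.of B') ⟶ Spec (CommRingCat.of B) :=
  Spec.map (CommRingCat.ofHom (algebraMap B B'))

/-- `Spec T` over `Spec B`. -/
noncomputable abbrev sp (T : Type u) [CommRing T] [Algebra B T] :
    Over (Spec (CommRingCat.of B)) := Over.mk (Spec.map (CommRingCat.ofHom (algebraMap B T)))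

variable {B}

/-- The morphism attached to an algebra map. -/
noncomputable def spMap {T T' : Type u} [CommRing T] [Algebra B T] [CommRing T'] [Algebra B T']
    (h : T →ₐ[B] T') : sp B T' ⟶ sp B T :=
  Over.homMk (Spec.map (CommRingCat.ofHom h.toRingHom)) (by
    change Spec.map _ ≫ Spec.map _ = Spec.map _
    rw [← Spec.map_comp, ← CommRingCat.ofHom_comp]
    congr 2
    exact h.comp_algebraMap)

@[simp] lemma spMap_left {T T' : Type u} [CommRing T] [Algebra B T] [CommRing T'] [Algebra B T']
    (h : T →ₐ[B] T') : (spMap h).left = Spec.map (CommRingCat.ofHom h.toRingHom) := rfl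

lemma spMap_id (T : Type u) [CommRing T] [Algebra B T] : spMap (AlgHom.id B T) = 𝟙 (sp B T) := by
  ext1
  exact Spec.map_id _

lemma spMap_comp {T T' T'' : Type u} [CommRing T] [Algebra B T] [CommRing T'] [Algebra B T']
    [CommRing T''] [Algebra B T''] (h : T →ₐ[B] T') (g : T' →ₐ[B] T'') :
    spMap (g.comp h) = spMap g ≫ spMap h := by
  ext1
  exact Spec.map_comp (CommRingCat.ofHom h.toRingHom) (CommRingCat.ofHom g.toRingHom)

lemma spMap_injective {T T' : Type u} [CommRing T] [Algebra B T] [CommRing T'] [Algebra B T'] :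
    Function.Injective (spMap : (T →ₐ[B] T') → (sp B T' ⟶ sp B T)) := by
  intro h g hhg
  have h1 := congrArg (fun z => z.left) hhg
  have h2 := Spec.map_injective h1
  ext x
  exact congr($h2 x)

lemma spMap_surjective {T T' : Type u} [CommRing T] [Algebra B T] [CommRing T'] [Algebra B T'] :
    Function.Surjective (spMap : (T →ₐ[B] T') → (sp B T' ⟶ sp B T)) := by
  intro f
  obtain ⟨g, hg⟩ := Spec.map_surjective f.left
  have h1 : CommRingCat.ofHom (algebraMap B T) ≫ g = CommRingCat.ofHom (algebraMap B T') := by
    apply Spec.map_injective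
    rw [Spec.map_comp, hg]
    exact Over.w f
  refine ⟨{ toRingHom := g.hom, commutes' := fun x => congr($h1 x) }, ?_⟩
  ext1
  exact hg

/-- Algebra maps are the same as morphisms of spectra. -/
noncomputable def spEquiv (T T' : Type u) [CommRing T] [Algebra B T] [CommRing T'] [Algebra B T'] :
    (T →ₐ[B] T') ≃ (sp B T' ⟶ sp B T) :=
  Equiv.ofBijective spMap ⟨spMap_injective, spMap_surjective⟩

lemma spEquiv_apply {T T' : Type u} [CommRing T] [Algebra B T] [CommRing T'] [Algebra B T']
    (h : T →ₐ[B] T') : spEquiv T T' h = spMap h := rfl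

lemma isPullback_sp (T : Type u) [CommRing T] [Algebra B T] :
    IsPullback (Spec.map (CommRingCat.ofHom
      (Algebra.TensorProduct.includeRight : T →ₐ[B] B' ⊗[B] T).toRingHom))
      (Spec.map (CommRingCat.ofHom (algebraMap B' (B' ⊗[B] T)))) (sp B T).hom (bm B B') :=
  (isPullback_SpecMap_of_isPushout _ _ _ _ (CommRingCat.isPushout_tensorProduct B B' T)).flip

/-- The comparison `Spec (B' ⊗ T) ≅ Spec T ×_B B'`. -/
noncomputable def kap (T : Type u) [CommRing T] [Algebra B T] :
    sp B' (B' ⊗[B] T) ≅ (Over.pullback (bm B B')).obj (sp B T) :=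
  Over.isoMk (isPullback_sp B' T).isoPullback (by
    exact (isPullback_sp B' T).isoPullback_hom_snd)

lemma kap_fst (T : Type u) [CommRing T] [Algebra B T] :
    (kap B' T).hom.left ≫ pullback.fst (sp B T).hom (bm B B') =
      Spec.map (CommRingCat.ofHom
        (Algebra.TensorProduct.includeRight : T →ₐ[B] B' ⊗[B] T).toRingHom) :=
  (isPullback_sp B' T).isoPullback_hom_fst

lemma kap_snd (T : Type u) [CommRing T] [Algebra B T] :
    (kap B' T).hom.left ≫ pullback.snd (sp B T).hom (bm B B') =
      Spec.map (CommRingCat.ofHom (algebraMap B' (B' ⊗[B] T))) :=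
  (isPullback_sp B' T).isoPullback_hom_snd

/-- Naturality of `kap`. -/
lemma kap_nat {T T' : Type u} [CommRing T] [Algebra B T] [CommRing T'] [Algebra B T']
    (h : T →ₐ[B] T') :
    (kap B' T').hom ≫ (Over.pullback (bm B B')).map (spMap h) =
      spMap (Algebra.TensorProduct.map (AlgHom.id B' B') h) ≫ (kap B' T).hom := by
  ext1
  apply pullback.hom_ext
  · have h1 : ((Over.pullback (bm B B')).map (spMap h)).left ≫
        pullback.fst (sp B T).hom (bm B B') =
        pullback.fst (sp B T').hom (bm B B') ≫ (spMap h).left := pullback.lift_fst _ _ _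
    rw [Over.comp_left, Over.comp_left, Category.assoc, Category.assoc, h1, kap_fst,
      ← Category.assoc, kap_fst, spMap_left, spMap_left, ← Spec.map_comp, ← Spec.map_comp]
    congr 1
  · have h1 : ((Over.pullback (bm B B')).map (spMap h)).left ≫
        pullback.snd (sp B T).hom (bm B B') =
        pullback.snd (sp B T').hom (bm B B') := pullback.lift_snd _ _ _
    rw [Over.comp_left, Over.comp_left, Category.assoc, Category.assoc, h1, kap_snd, kap_snd,
      spMap_left, ← Spec.map_comp]
    congr 1
    apply CommRingCat.hom_ext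
    exact (Algebra.TensorProduct.map (AlgHom.id B' B') h).comp_algebraMap.symm

end Basic

section Points

variable {B B' : Type u} [CommRing B] [CommRing B'] [Algebra B B']
  {X' : Over (Spec (CommRingCat.of B'))} {R : Over (Spec (CommRingCat.of B))}
  {C : Type u} [CommRing C] [Algebra B' C] (iX : X' ≅ sp B' C)
  (e : ∀ Y : Over (Spec (CommRingCat.of B)), (Y ⟶ R) ≃ ((Over.pullback (bm B B')).obj Y ⟶ X'))
  (he : ∀ (Y Z : Over (Spec (CommRingCat.of B))) (h : Y ⟶ Z) (g : Z ⟶ R),
    e Y (h ≫ g) = (Over.pullback (bm B B')).map h ≫ e Z g)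

/-- Affine points of a Weil restriction. -/
noncomputable def pt (T : Type u) [CommRing T] [Algebra B T] :
    (sp B T ⟶ R) ≃ (C →ₐ[B'] B' ⊗[B] T) :=
  (e (sp B T)).trans (((kap B' T).homCongr iX.symm).symm.trans (spEquiv C (B' ⊗[B] T)).symm)

lemma spMap_pt (T : Type u) [CommRing T] [Algebra B T] (x : sp B T ⟶ R) :
    spMap (pt iX e T x) = (kap B' T).hom ≫ e (sp B T) x ≫ iX.hom := by
  rw [← spEquiv_apply]
  exact (spEquiv C (B' ⊗[B] T)).apply_symm_apply _

include he in
lemma pt_comp {T T' : Type u} [CommRing T] [Algebra B T] [CommRing T'] [Algebra B T']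
    (h : T →ₐ[B] T') (x : sp B T ⟶ R) :
    pt iX e T' (spMap h ≫ x) =
      (Algebra.TensorProduct.map (AlgHom.id B' B') h).comp (pt iX e T x) := by
  apply spMap_injective
  rw [spMap_pt, he, spMap_comp, spMap_pt, ← Category.assoc, ← Category.assoc, kap_nat]
  simp only [Category.assoc]

variable {W : Type u} [CommRing W] [Algebra B W] {ev : C →ₐ[B'] B' ⊗[B] W}

/-- The comparison morphism `Spec W ⟶ R`. -/
noncomputable def theta (ev : C →ₐ[B'] B' ⊗[B] W) : sp B W ⟶ R := (pt iX e W).symm ev

lemma pt_theta : pt iX e W (theta iX e ev) = ev := Equiv.apply_symm_apply _ _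

include he in
lemma theta_bijective (h : IsRep ev) (T : Type u) [CommRing T] [Algebra B T] :
    Function.Bijective (fun x : sp B T ⟶ sp B W => x ≫ theta iX e ev) := by
  have key : (pt iX e T) ∘ (fun x : sp B T ⟶ sp B W => x ≫ theta iX e ev) ∘ (spEquiv W T) =
      fun g : W →ₐ[B] T => push ev g := by
    funext g
    rw [Function.comp_apply, Function.comp_apply, spEquiv_apply, pt_comp iX e he, pt_theta]
    rfl
  have h1 : Function.Bijective ((pt iX e T) ∘ (fun x : sp B T ⟶ sp B W => x ≫ theta iX e ev) ∘
      (spEquiv W T)) := by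
    rw [key]
    exact h T
  have h2 := (Function.Bijective.of_comp_iff' (pt iX e T).bijective _).1 h1
  exact (Function.Bijective.of_comp_iff _ (spEquiv W T).bijective).1 h2

include he in
/-- **Uniqueness**: the Weil restriction is `Spec W`. -/
theorem isIso_theta (h : IsRep ev) : IsIso (theta iX e ev) := by
  apply Groth.Agent.Sga3B.Parab.AffPts998.isIso_of_aff
  intro T _ c
  obtain ⟨φ, rfl⟩ := Spec.map_surjective c
  let _ : Algebra B T := φ.hom.toAlgebra
  exact theta_bijective iX e he h T

include he in
/-- The counit is `Spec ev`. -/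
theorem counit_eq :
    (kap B' W).hom ≫ (Over.pullback (bm B B')).map (theta iX e ev) ≫ e R (𝟙 R) ≫ iX.hom =
      spMap ev := by
  have h1 : e (sp B W) (theta iX e ev) =
      (Over.pullback (bm B B')).map (theta iX e ev) ≫ e R (𝟙 R) := by
    rw [← he, Category.comp_id]
  rw [← pt_theta iX e (ev := ev), spMap_pt, pt_theta, h1, Category.assoc]

end Points

section Main

variable {B B' : Type u} [CommRing B] [CommRing B'] [Algebra B B']
  [Module.Finite B B'] [Module.Projective B B']
  {X' : Over (Spec (CommRingCat.of B'))} {R : Over (Spec (CommRingCat.of B))}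

/-- An affine scheme over `Spec B'` is the spectrum of an algebra. -/
lemma exists_iso_sp (X' : Over (Spec (CommRingCat.of B'))) [IsAffine X'.left] :
    ∃ (C : Type u) (_ : CommRing C) (_ : Algebra B' C), Nonempty (X' ≅ sp B' C) := by
  let C := Γ(X'.left, ⊤)
  obtain ⟨φ, hφ⟩ := Spec.map_surjective (X'.left.isoSpec.inv ≫ X'.hom)
  let _ : Algebra B' C := φ.hom.toAlgebra
  refine ⟨C, inferInstance, inferInstance, ⟨Over.isoMk X'.left.isoSpec ?_⟩⟩
  change X'.left.isoSpec.hom ≫ Spec.map φ = X'.hom
  rw [hφ, Iso.hom_inv_id_assoc]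

variable (e : ∀ Y : Over (Spec (CommRingCat.of B)), (Y ⟶ R) ≃ ((Over.pullback (bm B B')).obj Y ⟶ X'))
  (he : ∀ (Y Z : Over (Spec (CommRingCat.of B))) (h : Y ⟶ Z) (g : Z ⟶ R),
    e Y (h ≫ g) = (Over.pullback (bm B B')).map h ≫ e Z g)

include he in
/-- Main comparison: everything in terms of algebras. -/
theorem exists_model [IsAffine X'.left] :
    ∃ (C : Type u) (_ : CommRing C) (_ : Algebra B' C) (iX : X' ≅ sp B' C)
      (W : Type u) (_ : CommRing W) (_ : Algebra B W) (ev : C →ₐ[B'] B' ⊗[B] W)
      (θ : sp B W ≅ R), IsRep ev ∧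
      (kap B' W).hom ≫ (Over.pullback (bm B B')).map θ.hom ≫ e R (𝟙 R) ≫ iX.hom = spMap ev := by
  obtain ⟨C, _, _, ⟨iX⟩⟩ := exists_iso_sp X'
  obtain ⟨W, _, _, ev, h⟩ := exists_isRep B B' C
  have := isIso_theta iX e he h
  exact ⟨C, inferInstance, inferInstance, iX, W, inferInstance, inferInstance, ev,
    asIso (theta iX e ev), h, counit_eq iX e he⟩

include he in
/-- The Weil restriction of an affine scheme is affine. -/
theorem isAffine [IsAffine X'.left] : IsAffine R.left := by
  obtain ⟨C, _, _, iX, W, _, _, ev, θ, h, -⟩ := exists_model e he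
  let i : (sp B W).left ≅ R.left := (Over.forget _).mapIso θ
  have : IsAffine (sp B W).left := inferInstanceAs (IsAffine (Spec (CommRingCat.of W)))
  exact .of_isIso i.inv

end Main

section Props

variable {B : Type u} [CommRing B]

lemma hom_eq {X : Over (Spec (CommRingCat.of B))} {C : Type u} [CommRing C] [Algebra B C]
    (i : X ≅ sp B C) : X.hom = i.hom.left ≫ Spec.map (CommRingCat.ofHom (algebraMap B C)) :=
  (Over.w i.hom).symm

lemma hom_eq' {X : Over (Spec (CommRingCat.of B))} {C : Type u} [CommRing C] [Algebra B C]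
    (i : X ≅ sp B C) : Spec.map (CommRingCat.ofHom (algebraMap B C)) = i.inv.left ≫ X.hom :=
  (Over.w i.inv).symm

lemma prop_iff {X : Over (Spec (CommRingCat.of B))} {C : Type u} [CommRing C] [Algebra B C]
    (i : X ≅ sp B C) (P : MorphismProperty Scheme.{u}) [P.RespectsIso] :
    P X.hom ↔ P (Spec.map (CommRingCat.ofHom (algebraMap B C))) := by
  rw [hom_eq i, P.cancel_left_of_respectsIso]

lemma finiteType_of_iso {X : Over (Spec (CommRingCat.of B))} {C : Type u} [CommRing C]
    [Algebra B C] (i : X ≅ sp B C) [LocallyOfFiniteType X.hom] : Algebra.FiniteType B C := by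
  have h1 := (prop_iff i @LocallyOfFiniteType).1 inferInstance
  rw [HasRingHomProperty.Spec_iff (P := @LocallyOfFiniteType)] at h1
  exact RingHom.finiteType_algebraMap.1 h1

lemma locallyOfFiniteType_of_iso {X : Over (Spec (CommRingCat.of B))} {C : Type u} [CommRing C]
    [Algebra B C] (i : X ≅ sp B C) [Algebra.FiniteType B C] : LocallyOfFiniteType X.hom := by
  rw [prop_iff i @LocallyOfFiniteType, HasRingHomProperty.Spec_iff (P := @LocallyOfFiniteType)]
  exact RingHom.finiteType_algebraMap.2 inferInstance

lemma finitePresentation_of_iso {X : Over (Spec (CommRingCat.of B))} {C : Type u} [CommRing C]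
    [Algebra B C] (i : X ≅ sp B C) [LocallyOfFinitePresentation X.hom] :
    Algebra.FinitePresentation B C := by
  have h1 := (prop_iff i @LocallyOfFinitePresentation).1 inferInstance
  rw [HasRingHomProperty.Spec_iff (P := @LocallyOfFinitePresentation)] at h1
  exact RingHom.finitePresentation_algebraMap.1 h1

lemma locallyOfFinitePresentation_of_iso {X : Over (Spec (CommRingCat.of B))} {C : Type u}
    [CommRing C] [Algebra B C] (i : X ≅ sp B C) [Algebra.FinitePresentation B C] :
    LocallyOfFinitePresentation X.hom := by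
  rw [prop_iff i @LocallyOfFinitePresentation,
    HasRingHomProperty.Spec_iff (P := @LocallyOfFinitePresentation)]
  exact RingHom.finitePresentation_algebraMap.2 inferInstance

lemma smooth_of_iso {X : Over (Spec (CommRingCat.of B))} {C : Type u} [CommRing C]
    [Algebra B C] (i : X ≅ sp B C) [Smooth X.hom] : Algebra.Smooth B C := by
  have h1 := (prop_iff i @Smooth).1 inferInstance
  rw [HasRingHomProperty.Spec_iff (P := @Smooth)] at h1
  exact RingHom.smooth_algebraMap.1 h1

lemma smooth_hom_of_iso {X : Over (Spec (CommRingCat.of B))} {C : Type u} [CommRing C]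
    [Algebra B C] (i : X ≅ sp B C) [Algebra.Smooth B C] : Smooth X.hom := by
  rw [prop_iff i @Smooth, HasRingHomProperty.Spec_iff (P := @Smooth)]
  exact RingHom.smooth_algebraMap.2 inferInstance

lemma comap_surjective_of_iso {X : Over (Spec (CommRingCat.of B))} {C : Type u} [CommRing C]
    [Algebra B C] (i : X ≅ sp B C) [Surjective X.hom] :
    Function.Surjective (PrimeSpectrum.comap (algebraMap B C)) := by
  have h1 := (prop_iff i @Surjective).1 inferInstance
  exact h1.surj

end Props

section Noeth

variable {B B' : Type u} [CommRing B] [CommRing B'] [Algebra B B']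
  [Module.Finite B B'] [Module.Projective B B']
  {X' : Over (Spec (CommRingCat.of B'))} {R : Over (Spec (CommRingCat.of B))}
  (e : ∀ Y : Over (Spec (CommRingCat.of B)), (Y ⟶ R) ≃ ((Over.pullback (bm B B')).obj Y ⟶ X'))
  (he : ∀ (Y Z : Over (Spec (CommRingCat.of B))) (h : Y ⟶ Z) (g : Z ⟶ R),
    e Y (h ≫ g) = (Over.pullback (bm B B')).map h ≫ e Z g)

include he in
/-- Finite type. -/
theorem locallyOfFiniteType [IsAffine X'.left] [LocallyOfFiniteType X'.hom] :
    LocallyOfFiniteType R.hom := by
  obtain ⟨C, _, _, iX, W, _, _, ev, θ, h, -⟩ := exists_model e he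
  have := finiteType_of_iso iX
  have := h.finiteType
  exact locallyOfFiniteType_of_iso θ.symm

include he in
/-- Finite presentation over a noetherian base. -/
theorem locallyOfFinitePresentation [IsNoetherianRing B] [IsAffine X'.left]
    [LocallyOfFiniteType X'.hom] : LocallyOfFinitePresentation R.hom := by
  obtain ⟨C, _, _, iX, W, _, _, ev, θ, h, -⟩ := exists_model e he
  have := finiteType_of_iso iX
  have := h.finiteType
  have : Algebra.FinitePresentation B W := Algebra.FinitePresentation.of_finiteType.1 inferInstance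
  exact locallyOfFinitePresentation_of_iso θ.symm

include he in
/-- Smoothness over a noetherian base. -/
theorem smooth [IsNoetherianRing B] [IsAffine X'.left] [Smooth X'.hom] : Smooth R.hom := by
  obtain ⟨C, _, _, iX, W, _, _, ev, θ, h, -⟩ := exists_model e he
  have := finiteType_of_iso iX
  have := h.finiteType
  have := smooth_of_iso iX
  have : Algebra.FinitePresentation B W := Algebra.FinitePresentation.of_finiteType.1 inferInstance
  have : Algebra.FormallySmooth B W := formallySmooth_base h
  have : Algebra.Smooth B W := ⟨inferInstance, inferInstance⟩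
  exact smooth_hom_of_iso θ.symm

/-- The universal point of a smooth algebra is smooth. -/
theorem smooth_ev {C W : Type u} [CommRing C] [Algebra B' C] [CommRing W] [Algebra B W]
    [IsNoetherianRing B] [Algebra.Smooth B' C] {ev : C →ₐ[B'] B' ⊗[B] W} (h : IsRep ev) :
    (ev : C →+* B' ⊗[B] W).Smooth := by
  have := h.finiteType
  have : Algebra.FinitePresentation B W := Algebra.FinitePresentation.of_finiteType.1 inferInstance
  let _ : Algebra C (B' ⊗[B] W) := ev.toRingHom.toAlgebra
  have : IsScalarTower B' C (B' ⊗[B] W) := IsScalarTower.of_algebraMap_eq fun x =>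
    (ev.commutes x).symm
  have h1 : Algebra.FinitePresentation C (B' ⊗[B] W) :=
    Algebra.FinitePresentation.of_restrict_scalars_finitePresentation B' C (B' ⊗[B] W)
  have h2 : Algebra.FormallySmooth C (B' ⊗[B] W) := formallySmooth_counit h
  exact ⟨h2, h1⟩

include he in
/-- The counit `R ×_B B' ⟶ X'` is smooth. -/
theorem smooth_counit [IsNoetherianRing B] [IsAffine X'.left] [Smooth X'.hom] :
    Smooth (e R (𝟙 R)).left := by
  obtain ⟨C, _, _, iX, W, _, _, ev, θ, h, hq⟩ := exists_model e he
  have := smooth_of_iso iX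
  have h1 : Smooth (Spec.map (CommRingCat.ofHom ev.toRingHom)) := by
    rw [HasRingHomProperty.Spec_iff (P := @Smooth)]
    exact smooth_ev h
  have h2 := congrArg (fun z => z.left) hq
  rw [Over.comp_left, Over.comp_left, Over.comp_left, spMap_left] at h2
  rw [← h2] at h1
  have h3 : IsIso ((Over.pullback (bm B B')).map θ.hom) := inferInstance
  rwa [MorphismProperty.cancel_left_of_respectsIso @Smooth,
    MorphismProperty.cancel_left_of_respectsIso @Smooth,
    MorphismProperty.cancel_right_of_respectsIso @Smooth] at h1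

include he in
/-- The counit `R ×_B B' ⟶ X'` is surjective. -/
theorem surjective_counit [IsAffine X'.left] [Smooth X'.hom] [Surjective X'.hom] :
    Surjective (e R (𝟙 R)).left := by
  obtain ⟨C, _, _, iX, W, _, _, ev, θ, h, hq⟩ := exists_model e he
  have := smooth_of_iso iX
  have h1 : Surjective (Spec.map (CommRingCat.ofHom ev.toRingHom)) :=
    ⟨spec_surjective (comap_surjective_of_iso iX) h⟩
  have h2 := congrArg (fun z => z.left) hq
  rw [Over.comp_left, Over.comp_left, Over.comp_left, spMap_left] at h2
  rw [← h2] at h1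
  have h3 : IsIso ((Over.pullback (bm B B')).map θ.hom) := inferInstance
  rwa [MorphismProperty.cancel_left_of_respectsIso @Surjective,
    MorphismProperty.cancel_left_of_respectsIso @Surjective,
    MorphismProperty.cancel_right_of_respectsIso @Surjective] at h1

end Noeth

end K541.WeilSch
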