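import Groth.Agent.Fdesc.GeomRed
import Mathlib.RingTheory.Localization.BaseChange
import Mathlib.RingTheory.LocalProperties.Reduced
import Mathlib.RingTheory.TensorProduct.Quotient

/-!
# Geometrically reduced algebras: base change, transitivity, localization
-/

set_option autoImplicit false

open TensorProduct

namespace K541.GeomRed

universe u v w

/-- Base change of geometrically reduced algebras along an arbitrary field extension. -/
theorem baseChange (k : Type u) (k' : Type v) (A : Type w) [Field k] [Field k'] [Algebra k k']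
    [CommRing A] [Algebra k A] [Algebra.IsGeometricallyReduced k A] :
    Algebra.IsGeometricallyReduced k' (k' ⊗[k] A) := by
  rw [Algebra.isGeometricallyReduced_field_iff]
  have h : IsReduced (AlgebraicClosure k' ⊗[k] A) :=
    Groth.Agent.Fdesc.GeomRed.isReduced_tensor_of_isGeometricallyReduced A (AlgebraicClosure k')
  exact isReduced_of_injective
    (Algebra.TensorProduct.cancelBaseChange k k' k' (AlgebraicClosure k') A)
    (Algebra.TensorProduct.cancelBaseChange k k' k' (AlgebraicClosure k') A).injective

/-- Transitivity of geometric reducedness. -/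
theorem trans (k : Type u) (k' : Type v) (A : Type w) [Field k] [Field k'] [Algebra k k']
    [CommRing A] [Algebra k A] [Algebra k' A] [IsScalarTower k k' A]
    [Algebra.IsGeometricallyReduced k k'] [Algebra.IsGeometricallyReduced k' A] :
    Algebra.IsGeometricallyReduced k A := by
  rw [Algebra.isGeometricallyReduced_field_iff]
  have h1 : IsReduced (AlgebraicClosure k ⊗[k] k') :=
    Groth.Agent.Fdesc.GeomRed.isReduced_tensor_of_isGeometricallyReduced k' (AlgebraicClosure k)
  have h1' : IsReduced (k' ⊗[k] AlgebraicClosure k) :=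
    isReduced_of_injective _ (Algebra.TensorProduct.comm k k' (AlgebraicClosure k)).injective
  have h2 : IsReduced ((k' ⊗[k] AlgebraicClosure k) ⊗[k'] A) :=
    Groth.Agent.Fdesc.GeomRed.isReduced_tensor_of_isGeometricallyReduced A _
  have h3 : IsReduced (A ⊗[k'] (k' ⊗[k] AlgebraicClosure k)) :=
    isReduced_of_injective _ (Algebra.TensorProduct.comm k' A (k' ⊗[k] AlgebraicClosure k)).injective
  have h4 : IsReduced (A ⊗[k] AlgebraicClosure k) :=
    isReduced_of_injective _ (Algebra.TensorProduct.cancelBaseChange k k' k' A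
      (AlgebraicClosure k)).symm.injective
  exact isReduced_of_injective _ (Algebra.TensorProduct.comm k (AlgebraicClosure k) A).injective

/-- Localizations of geometrically reduced algebras are geometrically reduced. -/
theorem of_isLocalization (k : Type u) [Field k] {A : Type v} [CommRing A]
    [Algebra k A] [Algebra.IsGeometricallyReduced k A] (M : Submonoid A) (B : Type w) [CommRing B]
    [Algebra k B] [Algebra A B] [IsScalarTower k A B] [IsLocalization M B] :
    Algebra.IsGeometricallyReduced k B := by
  rw [Algebra.isGeometricallyReduced_field_iff]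
  let L := AlgebraicClosure k
  have h : IsReduced (L ⊗[k] A) := (Algebra.isGeometricallyReduced_field_iff k A).mp inferInstance
  let φ : L ⊗[k] A →ₐ[L] L ⊗[k] B :=
    Algebra.TensorProduct.map (AlgHom.id L L) (IsScalarTower.toAlgHom k A B)
  let : Algebra (L ⊗[k] A) (L ⊗[k] B) := φ.toRingHom.toAlgebra
  have : IsScalarTower L (L ⊗[k] A) (L ⊗[k] B) := IsScalarTower.of_algebraMap_eq' (by
    ext x
    exact (φ.commutes x).symm)
  have h1 := IsLocalization.tensorProduct_tensorProduct_right k L M B (by
    ext x
    change φ (1 ⊗ₜ x) = 1 ⊗ₜ (algebraMap A B x)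
    simp [φ])
  exact ⟨fun z hz => by
    obtain ⟨n, hn⟩ := hz
    obtain ⟨⟨y, m⟩, hm⟩ := IsLocalization.surj
      (M.map (Algebra.TensorProduct.includeRight (R := k) (A := L))) z
    have h2 : algebraMap (L ⊗[k] A) (L ⊗[k] B) (y ^ n) = 0 := by
      rw [map_pow, ← hm, mul_pow, hn, zero_mul]
    obtain ⟨c, hc⟩ := (IsLocalization.map_eq_zero_iff
      (M.map (Algebra.TensorProduct.includeRight (R := k) (A := L))) (L ⊗[k] B) (y ^ n)).1 h2
    have h3 : IsNilpotent ((c : L ⊗[k] A) * y) := by
      refine ⟨n + 1, ?_⟩
      rw [mul_pow, pow_succ (c : L ⊗[k] A), pow_succ y]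
      calc (c : L ⊗[k] A) ^ n * c * (y ^ n * y) = (c : L ⊗[k] A) ^ n * y * ((c : L ⊗[k] A) * y ^ n) := by ring
        _ = 0 := by rw [hc, mul_zero]
    have h4 : algebraMap (L ⊗[k] A) (L ⊗[k] B) y = 0 :=
      (IsLocalization.map_eq_zero_iff
        (M.map (Algebra.TensorProduct.includeRight (R := k) (A := L))) (L ⊗[k] B) y).2
        ⟨c, h3.eq_zero⟩
    rw [h4] at hm
    exact (IsLocalization.map_units (L ⊗[k] B) m).mul_left_eq_zero.1 hm⟩

/-- Transport along an isomorphism. -/
theorem of_algEquiv (k : Type u) [Field k] {A : Type v} [CommRing A] [Algebra k A]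
    {B : Type w} [CommRing B] [Algebra k B] (e : A ≃ₐ[k] B)
    [Algebra.IsGeometricallyReduced k B] : Algebra.IsGeometricallyReduced k A :=
  Algebra.IsGeometricallyReduced.of_injective e.toAlgHom e.injective

end K541.GeomRed
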