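import Groth.Agent.Pi1C.WeilAlg
import Mathlib.RingTheory.Smooth.Basic
import Mathlib.RingTheory.FinitePresentation
import Mathlib.RingTheory.Flat.Basic
import Mathlib.RingTheory.FiniteType
import Mathlib.LinearAlgebra.TensorProduct.RightExactness

/-!
# Weil restriction of algebras

`B → B'` a finite projective algebra, `C` a `B'`-algebra. The Weil restriction of `C` is a
`B`-algebra `W` with a universal `B'`-algebra map `ev : C → B' ⊗[B] W`.

* `push ev h`: the point `C → B' ⊗ T` attached to `h : W → T`.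
* `IsRep ev`: `ev` is universal.
* `exists_isRep`: existence.
* `IsRep.finiteType`: `W` is of finite type when `C` is.
-/

set_option autoImplicit false
universe u
open TensorProduct

namespace K541.WeilAlg

variable {B B' C W : Type u} [CommRing B] [CommRing B'] [Algebra B B'] [CommRing C] [Algebra B' C]
  [CommRing W] [Algebra B W]

/-- Push forward of `ev : C → B' ⊗ W` along `h : W → T`. -/
noncomputable def push (ev : C →ₐ[B'] B' ⊗[B] W) {T : Type u} [CommRing T] [Algebra B T]
    (h : W →ₐ[B] T) : C →ₐ[B'] B' ⊗[B] T :=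
  (Algebra.TensorProduct.map (AlgHom.id B' B') h).comp ev

lemma push_apply (ev : C →ₐ[B'] B' ⊗[B] W) {T : Type u} [CommRing T] [Algebra B T]
    (h : W →ₐ[B] T) (c : C) :
    push ev h c = Algebra.TensorProduct.map (AlgHom.id B' B') h (ev c) := rfl

lemma map_id_comp {T T' : Type u} [CommRing T] [Algebra B T]
    [CommRing T'] [Algebra B T'] (h : W →ₐ[B] T) (k : T →ₐ[B] T') :
    Algebra.TensorProduct.map (AlgHom.id B' B') (k.comp h) =
      (Algebra.TensorProduct.map (AlgHom.id B' B') k).comp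
        (Algebra.TensorProduct.map (AlgHom.id B' B') h) := by
  ext; simp

lemma push_comp (ev : C →ₐ[B'] B' ⊗[B] W) {T T' : Type u} [CommRing T] [Algebra B T]
    [CommRing T'] [Algebra B T'] (h : W →ₐ[B] T) (k : T →ₐ[B] T') :
    push ev (k.comp h) = (Algebra.TensorProduct.map (AlgHom.id B' B') k).comp (push ev h) := by
  rw [push, map_id_comp, push, AlgHom.comp_assoc]

lemma push_comp' (ev : C →ₐ[B'] B' ⊗[B] W) {T T' : Type u} [CommRing T] [Algebra B T]
    [CommRing T'] [Algebra B T'] (h : W →ₐ[B] T) (k : T →ₐ[B] T') :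
    push ev (k.comp h) = push (push ev h) k := push_comp ev h k

lemma push_id (ev : C →ₐ[B'] B' ⊗[B] W) : push ev (AlgHom.id B W) = ev := by
  ext c
  simp [push]

/-- `ev : C → B' ⊗ W` is universal: `W` represents the functor `T ↦ (C →ₐ[B'] B' ⊗[B] T)`. -/
def IsRep (ev : C →ₐ[B'] B' ⊗[B] W) : Prop :=
  ∀ (T : Type u) [CommRing T] [Algebra B T],
    Function.Bijective (fun h : W →ₐ[B] T => push ev h)

section Coord

variable {n : ℕ} (b : Fin n → B') (bs : Fin n → B' →ₗ[B] B)

/-- Coefficient maps `B' ⊗ T → T`. -/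
noncomputable def coef (T : Type u) [CommRing T] [Algebra B T] (i : Fin n) :
    B' ⊗[B] T →ₗ[B] T :=
  (TensorProduct.lid B T).toLinearMap ∘ₗ (bs i).rTensor T

@[simp] lemma coef_tmul (T : Type u) [CommRing T] [Algebra B T] (i : Fin n) (x : B') (t : T) :
    coef bs T i (x ⊗ₜ t) = bs i x • t := by
  simp [coef]

lemma sum_coef (hb : ∀ x : B', ∑ i, bs i x • b i = x) (T : Type u) [CommRing T] [Algebra B T]
    (z : B' ⊗[B] T) : ∑ i, b i ⊗ₜ[B] coef bs T i z = z := by
  induction z with
  | zero => simp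
  | tmul x t =>
    simp only [coef_tmul]
    conv_rhs => rw [← hb x]
    rw [TensorProduct.sum_tmul]
    simp [TensorProduct.smul_tmul]
  | add x y hx hy =>
    simp only [map_add, TensorProduct.tmul_add, Finset.sum_add_distrib, hx, hy]

lemma map_coef {T T' : Type u} [CommRing T] [Algebra B T] [CommRing T'] [Algebra B T']
    (h : T →ₐ[B] T') (i : Fin n) (z : B' ⊗[B] T) :
    h (coef bs T i z) = coef bs T' i (Algebra.TensorProduct.map (AlgHom.id B' B') h z) := by
  induction z with
  | zero => simp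
  | tmul x t => simp
  | add x y hx hy => simp [hx, hy]

/-- Coefficients determine the element. -/
lemma ext_coef (hb : ∀ x : B', ∑ i, bs i x • b i = x) {T : Type u} [CommRing T] [Algebra B T]
    {z w : B' ⊗[B] T} (h : ∀ i, coef bs T i z = coef bs T i w) : z = w := by
  rw [← sum_coef b bs hb T z, ← sum_coef b bs hb T w]
  exact Finset.sum_congr rfl fun i _ => by rw [h]

end Coord

section Existence

variable (B B' C)

open Groth.Agent.Pi1C.WeilAlg in
/-- Existence of the Weil restriction of an algebra along a finite projective algebra. -/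
theorem exists_isRep [Module.Finite B B'] [Module.Projective B B'] :
    ∃ (W : Type u) (_ : CommRing W) (_ : Algebra B W) (ev : C →ₐ[B'] B' ⊗[B] W), IsRep ev := by
  obtain ⟨n, b, bs, hb⟩ := exists_dualBasis B B'
  let _ : Algebra B C := ((algebraMap B' C).comp (algebraMap B B')).toAlgebra
  have hst : IsScalarTower B B' C := IsScalarTower.of_algebraMap_eq fun _ => rfl
  obtain ⟨W₀, _, _, ev₀, h₀⟩ := Groth.Agent.Pi1C.WeilAlg.exists_isRep B B' C
  -- the ideal of relations expressing `B'`-linearity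
  let rel : B' → W₀ ⊗[B] B' := fun x => ev₀ (algebraMap B' C x) - 1 ⊗ₜ x
  let I : Ideal W₀ := Ideal.span
    {w | ∃ (x : B') (i : Fin n), w = Groth.Agent.Pi1C.WeilAlg.coef bs W₀ i (rel x)}
  let W := W₀ ⧸ I
  let q : W₀ →ₐ[B] W := Ideal.Quotient.mkₐ B I
  have hrel : ∀ {T : Type u} [CommRing T] [Algebra B T] (h : W₀ →ₐ[B] T),
      (∀ w ∈ I, h w = 0) ↔ ∀ x : B', Groth.Agent.Pi1C.WeilAlg.push ev₀ h (algebraMap B' C x) =
        1 ⊗ₜ x := by
    intro T _ _ h
    have key : ∀ x : B', Groth.Agent.Pi1C.WeilAlg.push ev₀ h (algebraMap B' C x) - 1 ⊗ₜ x =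
        Algebra.TensorProduct.map h (AlgHom.id B B') (rel x) := by
      intro x
      simp only [rel, map_sub, Groth.Agent.Pi1C.WeilAlg.push_apply, Algebra.TensorProduct.map_tmul,
        map_one, AlgHom.id_apply]
    constructor
    · intro hI x
      rw [← sub_eq_zero, key, ← Groth.Agent.Pi1C.WeilAlg.sum_coef b bs hb T
        (Algebra.TensorProduct.map h (AlgHom.id B B') (rel x))]
      refine Finset.sum_eq_zero fun i _ => ?_
      rw [← Groth.Agent.Pi1C.WeilAlg.map_coef, hI _ (Ideal.subset_span ⟨x, i, rfl⟩),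
        TensorProduct.zero_tmul]
    · intro hx
      have : I ≤ RingHom.ker h := by
        apply Ideal.span_le.2
        rintro _ ⟨x, i, rfl⟩
        rw [SetLike.mem_coe, RingHom.mem_ker, Groth.Agent.Pi1C.WeilAlg.map_coef, ← key, hx,
          sub_self, map_zero]
      exact fun w hw => this hw
  -- translation between the two kinds of points
  let sw : ∀ (T : Type u) [CommRing T] [Algebra B T], T ⊗[B] B' ≃ₐ[B] B' ⊗[B] T :=
    fun T _ _ => Algebra.TensorProduct.comm B T B'
  let mk : ∀ {T : Type u} [CommRing T] [Algebra B T] (φ : C →ₐ[B] T ⊗[B] B')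
      (_ : ∀ x : B', φ (algebraMap B' C x) = 1 ⊗ₜ x), C →ₐ[B'] B' ⊗[B] T :=
    fun {T} _ _ φ hφ =>
      { toRingHom := ((sw T).toAlgHom.comp φ).toRingHom
        commutes' := fun x => by
          change (sw T) (φ (algebraMap B' C x)) = _
          rw [hφ]
          exact Algebra.TensorProduct.comm_tmul B (1 : T) x }
  have hq : ∀ x : B', Groth.Agent.Pi1C.WeilAlg.push ev₀ q (algebraMap B' C x) = 1 ⊗ₜ x :=
    (hrel q).1 (fun w hw => Ideal.Quotient.eq_zero_iff_mem.2 hw)
  let ev : C →ₐ[B'] B' ⊗[B] W := mk (Groth.Agent.Pi1C.WeilAlg.push ev₀ q) hq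
  refine ⟨W, inferInstance, inferInstance, ev, ?_⟩
  intro T _ _
  have hpush : ∀ (h : W →ₐ[B] T) (c : C),
      push ev h c = sw T (Groth.Agent.Pi1C.WeilAlg.push ev₀ (h.comp q) c) := by
    intro h c
    rw [Groth.Agent.Pi1C.WeilAlg.push_comp]
    change Algebra.TensorProduct.map (AlgHom.id B' B') h
      (sw W (Groth.Agent.Pi1C.WeilAlg.push ev₀ q c)) =
      sw T (Algebra.TensorProduct.map h (AlgHom.id B B') (Groth.Agent.Pi1C.WeilAlg.push ev₀ q c))
    generalize Groth.Agent.Pi1C.WeilAlg.push ev₀ q c = z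
    induction z with
    | zero => simp
    | tmul x t => simp [sw]
    | add x y hx hy => simp only [map_add, hx, hy]
  constructor
  · intro h h' hh
    apply Ideal.Quotient.algHom_ext
    apply (h₀ T).1
    ext c
    apply (sw T).injective
    change sw T (Groth.Agent.Pi1C.WeilAlg.push ev₀ (h.comp q) c) =
      sw T (Groth.Agent.Pi1C.WeilAlg.push ev₀ (h'.comp q) c)
    rw [← hpush, ← hpush]
    exact DFunLike.congr_fun hh c
  · intro φ
    let φ₀ : C →ₐ[B] T ⊗[B] B' := (sw T).symm.toAlgHom.comp (φ.restrictScalars B)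
    obtain ⟨h, hh⟩ := (h₀ T).2 φ₀
    dsimp only at hh
    have hφ₀ : ∀ x : B', φ₀ (algebraMap B' C x) = 1 ⊗ₜ x := by
      intro x
      change (sw T).symm (φ (algebraMap B' C x)) = _
      rw [AlgHom.commutes]
      exact Algebra.TensorProduct.comm_symm_tmul B (1 : T) x
    have hI : ∀ w ∈ I, h w = 0 := (hrel h).2 (by rw [hh]; exact hφ₀)
    refine ⟨Ideal.Quotient.liftₐ I h hI, ?_⟩
    ext c
    change push ev (Ideal.Quotient.liftₐ I h hI) c = φ c
    rw [hpush, show (Ideal.Quotient.liftₐ I h hI).comp q = h from Ideal.Quotient.liftₐ_comp _ _ _,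
      hh]
    exact (sw T).apply_symm_apply (φ c)

end Existence

section FiniteType

/-- The Weil restriction of an algebra of finite type is of finite type. -/
theorem IsRep.finiteType [Module.Finite B B'] [Module.Projective B B'] [Algebra.FiniteType B' C]
    {ev : C →ₐ[B'] B' ⊗[B] W} (h : IsRep ev) : Algebra.FiniteType B W := by
  classical
  obtain ⟨n, b, bs, hb⟩ := Groth.Agent.Pi1C.WeilAlg.exists_dualBasis B B'
  obtain ⟨s, hs⟩ := (inferInstance : Algebra.FiniteType B' C).out
  let S : Finset W := (s ×ˢ (Finset.univ : Finset (Fin n))).image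
    fun p => coef bs W p.2 (ev p.1)
  let W₁ : Subalgebra B W := Algebra.adjoin B (S : Set W)
  let ι : W₁ →ₐ[B] W := W₁.val
  let ι' : B' ⊗[B] W₁ →ₐ[B'] B' ⊗[B] W := Algebra.TensorProduct.map (AlgHom.id B' B') ι
  have hι' : Function.Injective ι' := by
    have h1 : Function.Injective (LinearMap.lTensor B' ι.toLinearMap) :=
      Module.Flat.lTensor_preserves_injective_linearMap _ Subtype.val_injective
    have h2 : ∀ z, ι' z = LinearMap.lTensor B' ι.toLinearMap z := by
      intro z
      induction z with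
      | zero => simp
      | tmul x t => simp [ι']
      | add x y hx hy => rw [map_add, map_add, hx, hy]
    intro x y hxy
    apply h1
    rw [← h2, ← h2, hxy]
  have hrange : ∀ c : C, ev c ∈ ι'.range := by
    have h1 : (⊤ : Subalgebra B' C) ≤ ι'.range.comap ev := by
      rw [← hs]
      apply Algebra.adjoin_le
      intro c hc
      rw [SetLike.mem_coe, Subalgebra.mem_comap, ← sum_coef b bs hb W (ev c)]
      refine Subalgebra.sum_mem _ fun i _ => ?_
      have hmem : coef bs W i (ev c) ∈ W₁ := Algebra.subset_adjoin (by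
        simp only [S, Finset.coe_image, Set.mem_image, Finset.mem_coe, Finset.mem_product]
        exact ⟨(c, i), ⟨hc, Finset.mem_univ _⟩, rfl⟩)
      exact ⟨b i ⊗ₜ[B] (⟨_, hmem⟩ : W₁), by simp [ι', ι]⟩
    intro c
    exact h1 (Algebra.mem_top)
  let e₁ : (B' ⊗[B] W₁) ≃ₐ[B'] ι'.range := AlgEquiv.ofInjective ι' hι'
  let ev₁ : C →ₐ[B'] B' ⊗[B] W₁ :=
    e₁.symm.toAlgHom.comp (ev.codRestrict ι'.range hrange)
  have hev₁ : ι'.comp ev₁ = ev := by
    ext c
    have h1 : ((e₁ (e₁.symm (ev.codRestrict ι'.range hrange c)) : ι'.range) : B' ⊗[B] W) =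
        ι' (ev₁ c) := rfl
    rw [e₁.apply_symm_apply] at h1
    exact h1.symm
  obtain ⟨g, hg⟩ := (h W₁).2 ev₁
  dsimp only at hg
  have hιg : ι.comp g = AlgHom.id B W := by
    apply (h W).1
    dsimp only
    rw [push_comp, hg, push_id]
    exact hev₁
  have htop : W₁ = ⊤ := by
    rw [eq_top_iff]
    intro w _
    have h1 : ι (g w) = w := DFunLike.congr_fun hιg w
    rw [← h1]
    exact (g w).2
  exact ⟨⟨S, htop⟩⟩

end FiniteType

end K541.WeilAlg
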