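import Groth.Agent.PRed.K541.WeilPts
import Mathlib.Algebra.Polynomial.AlgebraMap

/-!
# Connectedness of Weil restrictions
-/

set_option autoImplicit false
set_option linter.unusedSectionVars false
universe u
open TensorProduct

namespace K541.WeilConn

open K541.WeilAlg K541.WeilSmooth K541.WeilPts

section Lift

/-- Lifting of ring homomorphisms from formally smooth algebras. -/
theorem exists_lift_ringHom {R A P Q : Type u} [CommRing R] [CommRing A] [Algebra R A]
    [Algebra.FormallySmooth R A] [CommRing P] [CommRing Q] (f : A →+* Q) (g : P →+* Q)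
    (hg : Function.Surjective g) (hn : IsNilpotent (RingHom.ker g)) (ρ : R →+* P)
    (hρ : ∀ r, g (ρ r) = f (algebraMap R A r)) :
    ∃ h : A →+* P, (∀ a, g (h a) = f a) ∧ ∀ r, h (algebraMap R A r) = ρ r := by
  let _ : Algebra R P := ρ.toAlgebra
  let _ : Algebra R Q := (g.comp ρ).toAlgebra
  let f' : A →ₐ[R] Q := { toRingHom := f, commutes' := fun r => (hρ r).symm }
  let g' : P →ₐ[R] Q := { toRingHom := g, commutes' := fun r => rfl }
  let h := Algebra.FormallySmooth.liftOfSurjective f' g' hg hn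
  exact ⟨h, fun a => Algebra.FormallySmooth.liftOfSurjective_apply f' g' hg hn a,
    fun r => h.commutes r⟩

/-- Lifting of ring homomorphisms from formally smooth algebras, without surjectivity. -/
theorem exists_lift_ringHom' {R A P Q : Type u} [CommRing R] [CommRing A] [Algebra R A]
    [Algebra.FormallySmooth R A] [CommRing P] [CommRing Q] (f : A →+* Q) (g : P →+* Q)
    (hfg : ∀ a, ∃ p, g p = f a) (hn : IsNilpotent (RingHom.ker g)) (ρ : R →+* P)
    (hρ : ∀ r, g (ρ r) = f (algebraMap R A r)) :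
    ∃ h : A →+* P, (∀ a, g (h a) = f a) ∧ ∀ r, h (algebraMap R A r) = ρ r := by
  have hn' : IsNilpotent (RingHom.ker g.rangeRestrict) := by rwa [RingHom.ker_rangeRestrict]
  obtain ⟨h, h1, h2⟩ := exists_lift_ringHom (f.codRestrict g.range hfg) g.rangeRestrict
    g.rangeRestrict_surjective hn' ρ (fun r => Subtype.ext (hρ r))
  exact ⟨h, fun a => congrArg Subtype.val (h1 a), h2⟩

end Lift

variable (B B' K : Type u) [CommRing B] [CommRing B'] [Algebra B B'] [Module.Finite B B']
  [Field K] [IsAlgClosed K] [Algebra B K]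

/-- The `K`-point of `B' ⊗ K` attached to a maximal ideal. -/
noncomputable def res (m : MaximalSpectrum (B' ⊗[B] K)) : B' ⊗[B] K →+* K :=
  have := m.isMaximal
  (RingEquiv.ofBijective _ (residue_bijective B B' K m.asIdeal)).symm.toRingHom.comp
    (Ideal.Quotient.mk m.asIdeal)

variable {B B' K}

lemma res_eq_zero (m : MaximalSpectrum (B' ⊗[B] K)) (z : B' ⊗[B] K) :
    res B B' K m z = 0 ↔ z ∈ m.asIdeal := by
  have := m.isMaximal
  change (RingEquiv.ofBijective _ (residue_bijective B B' K m.asIdeal)).symm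
    (Ideal.Quotient.mk m.asIdeal z) = 0 ↔ _
  rw [EmbeddingLike.map_eq_zero_iff, Ideal.Quotient.eq_zero_iff_mem]

lemma res_one_tmul (m : MaximalSpectrum (B' ⊗[B] K)) (x : K) :
    res B B' K m (1 ⊗ₜ x) = x := by
  have := m.isMaximal
  exact (RingEquiv.ofBijective _ (residue_bijective B B' K m.asIdeal)).symm_apply_apply x

/-- The character of `B'` attached to a maximal ideal. -/
noncomputable def chi (m : MaximalSpectrum (B' ⊗[B] K)) : B' →ₐ[B] K :=
  { toRingHom := (res B B' K m).comp (Algebra.TensorProduct.includeLeftRingHom)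
    commutes' := fun b => by
      change res B B' K m (algebraMap B B' b ⊗ₜ 1) = _
      rw [Algebra.algebraMap_eq_smul_one, TensorProduct.smul_tmul, res_one_tmul,
        Algebra.algebraMap_eq_smul_one] }

lemma res_tmul (m : MaximalSpectrum (B' ⊗[B] K)) (b : B') (x : K) :
    res B B' K m (b ⊗ₜ x) = chi m b * x := by
  have h : b ⊗ₜ[B] x = (b ⊗ₜ 1) * (1 ⊗ₜ x) := by simp
  rw [h, map_mul, res_one_tmul]
  rfl

section RT

variable (T : Type u) [CommRing T] [Algebra K T] [Algebra B T] [IsScalarTower B K T]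

/-- The reduction map `B' ⊗ T → ∏ T`. -/
noncomputable def rT : B' ⊗[B] T →ₐ[B] (MaximalSpectrum (B' ⊗[B] K) → T) :=
  AlgHom.pi fun m => Algebra.TensorProduct.lift ((IsScalarTower.toAlgHom B K T).comp (chi m))
    (AlgHom.id B T) (fun _ _ => Commute.all _ _)

lemma rT_tmul (b : B') (t : T) (m : MaximalSpectrum (B' ⊗[B] K)) :
    rT (K := K) T (b ⊗ₜ[B] t) m = algebraMap K T (chi m b) * t := by
  change Algebra.TensorProduct.lift ((IsScalarTower.toAlgHom B K T).comp (chi m))
    (AlgHom.id B T) (fun _ _ => Commute.all _ _) (b ⊗ₜ[B] t) = _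
  rw [Algebra.TensorProduct.lift_tmul]
  rfl

/-- The inclusion `B' ⊗ K → B' ⊗ T`. -/
noncomputable def inc : B' ⊗[B] K →ₐ[B'] B' ⊗[B] T :=
  Algebra.TensorProduct.map (AlgHom.id B' B') (IsScalarTower.toAlgHom B K T)

lemma inc_tmul (b : B') (x : K) : inc T (b ⊗ₜ[B] x) = b ⊗ₜ algebraMap K T x := by
  simp [inc]

lemma rT_inc (z : B' ⊗[B] K) (m : MaximalSpectrum (B' ⊗[B] K)) :
    rT (K := K) T (inc T z) m = algebraMap K T (res B B' K m z) := by
  induction z with
  | zero => simp
  | tmul b x => rw [inc_tmul, rT_tmul, res_tmul, map_mul]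
  | add x y hx hy => rw [map_add, map_add, Pi.add_apply, hx, hy, map_add, map_add]

/-- Naturality of `rT`. -/
lemma rT_nat {T' : Type u} [CommRing T'] [Algebra K T'] [Algebra B T'] [IsScalarTower B K T']
    (g : T →ₐ[K] T') (z : B' ⊗[B] T) (m : MaximalSpectrum (B' ⊗[B] K)) :
    rT (K := K) T' (Algebra.TensorProduct.map (AlgHom.id B' B') (g.restrictScalars B) z) m =
      g (rT (K := K) T z m) := by
  induction z with
  | zero => simp
  | tmul b x =>
    rw [Algebra.TensorProduct.map_tmul, rT_tmul, rT_tmul, map_mul, AlgHom.commutes]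
    rfl
  | add x y hx hy => rw [map_add, map_add, map_add, Pi.add_apply, Pi.add_apply, hx, hy, map_add]

/-- Orthogonal lifts of the idempotents of `∏ K`. -/
lemma exists_single (m : MaximalSpectrum (B' ⊗[B] K)) :
    ∃ e : B' ⊗[B] K, res B B' K m e = 1 ∧ ∀ m', m' ≠ m → res B B' K m' e = 0 := by
  classical
  have hart : IsArtinianRing (B' ⊗[B] K) := isArtinianRing B B' K
  obtain ⟨e, he⟩ := toRes_surjective (R := B') (E := B' ⊗[B] K) (Pi.single m 1)
  refine ⟨e, ?_, fun m' hm' => ?_⟩
  · have h1 := congrFun he m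
    rw [Pi.single_eq_same, toRes_apply] at h1
    have h2 : e - 1 ∈ m.asIdeal := by
      rw [← Ideal.Quotient.mk_eq_mk_iff_sub_mem, h1, map_one]
    rw [← res_eq_zero, map_sub, map_one, sub_eq_zero] at h2
    exact h2
  · have h1 := congrFun he m'
    rw [Pi.single_eq_of_ne hm', toRes_apply, Ideal.Quotient.eq_zero_iff_mem] at h1
    exact (res_eq_zero m' e).2 h1

lemma mem_nilradical_iff (z : B' ⊗[B] K) :
    z ∈ nilradical (B' ⊗[B] K) ↔ ∀ m, res B B' K m z = 0 := by
  have hart : IsArtinianRing (B' ⊗[B] K) := isArtinianRing B B' K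
  rw [IsArtinianRing.nilradical_eq_iInf, Ideal.mem_iInf]
  exact forall_congr' fun m => (res_eq_zero m z).symm

lemma rT_surjective : Function.Surjective (rT (B := B) (B' := B') (K := K) T) := by
  classical
  have hart : IsArtinianRing (B' ⊗[B] K) := isArtinianRing B B' K
  have := Fintype.ofFinite (MaximalSpectrum (B' ⊗[B] K))
  choose e he1 he2 using exists_single (B := B) (B' := B') (K := K)
  intro y
  refine ⟨∑ m, inc T (e m) * (1 ⊗ₜ y m), ?_⟩
  funext m
  rw [map_sum, Finset.sum_apply, Finset.sum_eq_single m]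
  · rw [map_mul, Pi.mul_apply, rT_inc, rT_tmul, he1]
    simp
  · intro m' _ hm'
    rw [map_mul, Pi.mul_apply, rT_inc, he2 m' m hm'.symm]
    simp
  · intro h; exact absurd (Finset.mem_univ _) h

lemma ker_rT_le : RingHom.ker (rT (B := B) (B' := B') (K := K) T).toRingHom ≤
    (nilradical (B' ⊗[B] K)).map (inc (B := B) (B' := B') (K := K) T) := by
  classical
  have hart : IsArtinianRing (B' ⊗[B] K) := isArtinianRing B B' K
  have := Fintype.ofFinite (MaximalSpectrum (B' ⊗[B] K))
  choose e he1 he2 using exists_single (B := B) (B' := B') (K := K)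
  let J := (nilradical (B' ⊗[B] K)).map (inc (K := K) T)
  have hmem : ∀ z : B' ⊗[B] K, (∀ m, res B B' K m z = 0) → inc T z ∈ J := fun z hz =>
    Ideal.mem_map_of_mem _ ((mem_nilradical_iff z).2 hz)
  have key : ∀ (m : MaximalSpectrum (B' ⊗[B] K)) (z : B' ⊗[B] T),
      inc T (e m) * z - inc T (e m) * (1 ⊗ₜ rT (K := K) T z m) ∈ J := by
    intro m z
    induction z with
    | zero => simp
    | tmul b t =>
      have h1 : inc T (e m * (b ⊗ₜ 1) - e m * (1 ⊗ₜ chi m b)) ∈ J := by
        apply hmem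
        intro m'
        by_cases h : m' = m
        · subst h
          rw [map_sub, map_mul, map_mul, res_tmul, res_tmul, map_one]
          ring
        · rw [map_sub, map_mul, map_mul, he2 m m' h]
          ring
      have h2 : inc T (e m) * (b ⊗ₜ[B] t) - inc T (e m) * (1 ⊗ₜ rT (K := K) T (b ⊗ₜ[B] t) m) =
          inc T (e m * (b ⊗ₜ 1) - e m * (1 ⊗ₜ chi m b)) * (1 ⊗ₜ t) := by
        rw [map_sub, map_mul, map_mul, inc_tmul, inc_tmul, map_one, sub_mul, mul_assoc, mul_assoc,
          Algebra.TensorProduct.tmul_mul_tmul, Algebra.TensorProduct.tmul_mul_tmul, mul_one,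
          mul_one, one_mul, rT_tmul]
      rw [h2]
      exact Ideal.mul_mem_right _ _ h1
    | add x y hx hy =>
      have h1 : inc T (e m) * (x + y) - inc T (e m) * (1 ⊗ₜ rT (K := K) T (x + y) m) =
          (inc T (e m) * x - inc T (e m) * (1 ⊗ₜ rT (K := K) T x m)) +
          (inc T (e m) * y - inc T (e m) * (1 ⊗ₜ rT (K := K) T y m)) := by
        rw [map_add, Pi.add_apply, TensorProduct.tmul_add]
        ring
      rw [h1]
      exact Ideal.add_mem _ hx hy
  intro z hz
  have hz' : ∀ m, rT (K := K) T z m = 0 := fun m => congrFun hz m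
  have h1 : inc T (1 - ∑ m, e m) ∈ J := by
    apply hmem
    intro m
    rw [map_sub, map_one, map_sum, Finset.sum_eq_single m]
    · rw [he1, sub_self]
    · intro m' _ hm'
      exact he2 m' m hm'.symm
    · intro h; exact absurd (Finset.mem_univ _) h
  have h2 : z = inc T (1 - ∑ m, e m) * z + ∑ m, inc T (e m) * z := by
    rw [map_sub, map_one, map_sum, sub_mul, one_mul, Finset.sum_mul, sub_add_cancel]
  rw [h2]
  refine Ideal.add_mem _ (Ideal.mul_mem_right _ _ h1) (Ideal.sum_mem _ fun m _ => ?_)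
  have h3 := key m z
  rwa [hz', TensorProduct.tmul_zero, mul_zero, sub_zero] at h3

lemma isNilpotent_map_nilradical : IsNilpotent ((nilradical (B' ⊗[B] K)).map (inc (K := K) T)) := by
  have hart : IsArtinianRing (B' ⊗[B] K) := isArtinianRing B B' K
  obtain ⟨n, hn⟩ := IsArtinianRing.isNilpotent_nilradical (R := B' ⊗[B] K)
  refine ⟨n, ?_⟩
  rw [← Ideal.map_pow, hn]
  exact Ideal.map_bot

lemma isNilpotent_of_le {A : Type*} [CommRing A] {I J : Ideal A} (h : I ≤ J)
    (hJ : IsNilpotent J) : IsNilpotent I := by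
  obtain ⟨n, hn⟩ := hJ
  exact ⟨n, le_bot_iff.1 (by rw [← show J ^ n = ⊥ from hn]; exact Ideal.pow_right_mono h n)⟩

end RT


section Rep

variable {C W : Type u} [CommRing C] [Algebra B' C] [CommRing W] [Algebra B W]
  {ev : C →ₐ[B'] B' ⊗[B] W}

/-- The value of a function on `K ⊗ W` at a point. -/
noncomputable def val {T : Type u} [CommRing T] [Algebra K T] [Algebra B T] [IsScalarTower B K T]
    (w : W →ₐ[B] T) : K ⊗[B] W →ₐ[K] T :=
  Algebra.TensorProduct.lift (Algebra.ofId K T) w (fun _ _ => Commute.all _ _)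

lemma val_tmul {T : Type u} [CommRing T] [Algebra K T] [Algebra B T] [IsScalarTower B K T]
    (w : W →ₐ[B] T) (x : K) (y : W) : val w (x ⊗ₜ y) = algebraMap K T x * w y := by
  rw [val, Algebra.TensorProduct.lift_tmul]; rfl

lemma val_comp {T : Type u} [CommRing T] [Algebra K T] [Algebra B T] [IsScalarTower B K T]
    {T' : Type u} [CommRing T'] [Algebra K T'] [Algebra B T'] [IsScalarTower B K T']
    (w : W →ₐ[B] T) (g : T →ₐ[K] T') (ε : K ⊗[B] W) :
    val ((g.restrictScalars B).comp w) ε = g (val w ε) := by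
  have h : val ((g.restrictScalars B).comp w) = g.comp (val w) := by
    ext x
    · simp [val_tmul]
  rw [h]; rfl

/-- Extending families of reductions. -/
theorem exists_of_family [Algebra.FormallySmooth B' C] (h : IsRep ev)
    (T : Type u) [CommRing T] [Algebra K T] [Algebra B T] [IsScalarTower B K T]
    (Ψ : MaximalSpectrum (B' ⊗[B] K) → (C →+* T))
    (hΨ : ∀ m b, Ψ m (algebraMap B' C b) = algebraMap K T (chi m b)) :
    ∃ w : W →ₐ[B] T, ∀ m c, rT (K := K) T (push ev w c) m = Ψ m c := by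
  have hn : IsNilpotent (RingHom.ker (rT (B := B) (B' := B') (K := K) T).toRingHom) :=
    isNilpotent_of_le (ker_rT_le (B := B) (B' := B') (K := K) T) (isNilpotent_map_nilradical T)
  obtain ⟨φ, hφ1, hφ2⟩ := exists_lift_ringHom (R := B') (A := C) (RingHom.pi Ψ)
    (rT (B := B) (B' := B') (K := K) T).toRingHom (rT_surjective T) hn
    (algebraMap B' (B' ⊗[B] T)) (by
      intro r
      funext m
      change rT (K := K) T (r ⊗ₜ 1) m = Ψ m (algebraMap B' C r)
      rw [rT_tmul, hΨ, mul_one])
  let φ' : C →ₐ[B'] B' ⊗[B] T := { toRingHom := φ, commutes' := hφ2 }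
  obtain ⟨w, hw⟩ := (h T).2 φ'
  dsimp only at hw
  refine ⟨w, fun m c => ?_⟩
  rw [hw]
  exact congrFun (hφ1 c) m

/-- Points with the same reduction lie on a line. -/
theorem exists_line [Algebra.FormallySmooth B' C] (h : IsRep ev) (w₁ w₂ : W →ₐ[B] K)
    (hw : ∀ m c, res B B' K m (push ev w₁ c) = res B B' K m (push ev w₂ c))
    (T : Type u) [CommRing T] [Algebra K T] [Algebra B T] [IsScalarTower B K T]
    (g0 g1 : T →ₐ[K] K) (X : T) (h0 : g0 X = 0) (h1 : g1 X = 1) :
    ∃ w : W →ₐ[B] T, (g0.restrictScalars B).comp w = w₁ ∧ (g1.restrictScalars B).comp w = w₂ := by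
  let G0 : B' ⊗[B] T →ₐ[B'] B' ⊗[B] K :=
    Algebra.TensorProduct.map (AlgHom.id B' B') (g0.restrictScalars B)
  let G1 : B' ⊗[B] T →ₐ[B'] B' ⊗[B] K :=
    Algebra.TensorProduct.map (AlgHom.id B' B') (g1.restrictScalars B)
  let J : Ideal (B' ⊗[B] T) := (nilradical (B' ⊗[B] K)).map (inc (K := K) T)
  let G : B' ⊗[B] T →+* ((B' ⊗[B] K) × (B' ⊗[B] K)) × ((B' ⊗[B] T) ⧸ J) :=
    ((G0.toRingHom.prod G1.toRingHom).prod (Ideal.Quotient.mk J))
  have hker : RingHom.ker G ≤ J := fun z hz =>
    Ideal.Quotient.eq_zero_iff_mem.1 (congrArg Prod.snd (show G z = 0 from hz))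
  have hG0 : ∀ z, G0 (inc (K := K) T z) = z := by
    intro z
    induction z with
    | zero => simp
    | tmul b x => rw [inc_tmul, Algebra.TensorProduct.map_tmul]; simp
    | add x y hx hy => rw [map_add, map_add, hx, hy]
  have hG1 : ∀ z, G1 (inc (K := K) T z) = z := by
    intro z
    induction z with
    | zero => simp
    | tmul b x => rw [inc_tmul, Algebra.TensorProduct.map_tmul]; simp
    | add x y hx hy => rw [map_add, map_add, hx, hy]
  have hG0X : G0 (1 ⊗ₜ X) = 0 := by
    rw [Algebra.TensorProduct.map_tmul]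
    change _ ⊗ₜ[B] g0 X = 0
    rw [h0, TensorProduct.tmul_zero]
  have hG1X : G1 (1 ⊗ₜ X) = 1 := by
    rw [Algebra.TensorProduct.map_tmul]
    change _ ⊗ₜ[B] g1 X = 1
    rw [h1]; rfl
  let f : C →+* ((B' ⊗[B] K) × (B' ⊗[B] K)) × ((B' ⊗[B] T) ⧸ J) :=
    (((push ev w₁).toRingHom.prod (push ev w₂).toRingHom).prod
      ((Ideal.Quotient.mk J).comp ((inc (B := B) (B' := B') (K := K) T).toRingHom.comp
        (push ev w₁).toRingHom)))
  have hf : ∀ c, ∃ p, G p = f c := by
    intro c
    refine ⟨inc T (push ev w₁ c) + (1 ⊗ₜ X) * inc T (push ev w₂ c - push ev w₁ c), ?_⟩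
    refine Prod.ext (Prod.ext ?_ ?_) ?_
    · change G0 _ = push ev w₁ c
      rw [map_add, map_mul, hG0, hG0, hG0X, zero_mul, add_zero]
    · change G1 _ = push ev w₂ c
      rw [map_add, map_mul, hG1, hG1, hG1X]; ring
    · change Ideal.Quotient.mk J _ = Ideal.Quotient.mk J (inc T (push ev w₁ c))
      rw [Ideal.Quotient.mk_eq_mk_iff_sub_mem, add_sub_cancel_left]
      apply Ideal.mul_mem_left
      apply Ideal.mem_map_of_mem
      rw [mem_nilradical_iff]
      intro m
      rw [map_sub, hw, sub_self]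
  have hn := isNilpotent_of_le hker (isNilpotent_map_nilradical T)
  obtain ⟨φ, hφ1, hφ2⟩ := exists_lift_ringHom' (R := B') (A := C) f G hf hn
    (algebraMap B' (B' ⊗[B] T)) (by
      intro r
      change G (algebraMap B' (B' ⊗[B] T) r) = f (algebraMap B' C r)
      refine Prod.ext (Prod.ext ?_ ?_) ?_
      · change G0 _ = push ev w₁ _
        rw [AlgHom.commutes, AlgHom.commutes]
      · change G1 _ = push ev w₂ _
        rw [AlgHom.commutes, AlgHom.commutes]
      · change Ideal.Quotient.mk J _ = Ideal.Quotient.mk J (inc T (push ev w₁ _))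
        rw [AlgHom.commutes, AlgHom.commutes])
  let φ' : C →ₐ[B'] B' ⊗[B] T := { toRingHom := φ, commutes' := hφ2 }
  obtain ⟨w, hw'⟩ := (h T).2 φ'
  dsimp only at hw'
  refine ⟨w, ?_, ?_⟩
  · apply (h K).1
    dsimp only
    rw [push_comp, hw']
    ext c
    exact congrArg (fun z => z.1.1) (hφ1 c)
  · apply (h K).1
    dsimp only
    rw [push_comp, hw']
    ext c
    exact congrArg (fun z => z.1.2) (hφ1 c)

theorem val_eq_of_res_eq [Algebra.FormallySmooth B' C] (h : IsRep ev) {ε : K ⊗[B] W}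
    (hε : IsIdempotentElem ε) (w₁ w₂ : W →ₐ[B] K)
    (hw : ∀ m c, res B B' K m (push ev w₁ c) = res B B' K m (push ev w₂ c)) :
    val w₁ ε = val w₂ ε := by
  obtain ⟨w, e1, e2⟩ := exists_line h w₁ w₂ hw (Polynomial K) (Polynomial.aeval 0)
    (Polynomial.aeval 1) Polynomial.X (Polynomial.aeval_X _) (Polynomial.aeval_X _)
  have h3 : IsIdempotentElem (val (T := Polynomial K) w ε) := hε.map _
  rw [← e1, ← e2, val_comp, val_comp]
  rcases IsIdempotentElem.iff_eq_zero_or_one.1 h3 with h4 | h4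
  · rw [h4, map_zero, map_zero]
  · rw [h4, map_one, map_one]

lemma rT_self (z : B' ⊗[B] K) (m : MaximalSpectrum (B' ⊗[B] K)) :
    rT (K := K) K z m = res B B' K m z := by
  induction z with
  | zero => simp
  | tmul b x => rw [rT_tmul, res_tmul]; rfl
  | add x y hx hy => rw [map_add, map_add, Pi.add_apply, hx, hy]

lemma res_push_comp {T : Type u} [CommRing T] [Algebra K T] [Algebra B T] [IsScalarTower B K T]
    (w : W →ₐ[B] T) (g : T →ₐ[K] K) (m : MaximalSpectrum (B' ⊗[B] K)) (c : C) :
    res B B' K m (push ev ((g.restrictScalars B).comp w) c) =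
      g (rT (K := K) T (push ev w c) m) := by
  rw [push_comp, AlgHom.comp_apply, ← rT_self, rT_nat]

lemma res_push_algebraMap (w : W →ₐ[B] K) (m : MaximalSpectrum (B' ⊗[B] K)) (b : B') :
    res B B' K m (push ev w (algebraMap B' C b)) = chi m b := by
  rw [AlgHom.commutes]; rfl

/-- The connectedness assumption on the fibres of `C` over the characters of `B'`. -/
def FibConn (B K C : Type u) {B' : Type u} [CommRing B] [CommRing B'] [Algebra B B']
    [Module.Finite B B'] [Field K] [IsAlgClosed K] [Algebra B K] [CommRing C] [Algebra B' C] :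
    Prop :=
  ∀ m : MaximalSpectrum (B' ⊗[B] K), ∃ (T : Type u) (_ : CommRing T) (_ : Algebra K T)
    (τ : C →+* T), (∀ b, τ (algebraMap B' C b) = algebraMap K T (chi m b)) ∧
      (∀ e : T, IsIdempotentElem e → e = 0 ∨ e = 1) ∧
      (∀ c : C →+* K, (∀ b, c (algebraMap B' C b) = chi m b) → ∃ g : T →ₐ[K] K, ∀ x, g (τ x) = c x)

/-- Moving one coordinate. -/
theorem val_eq_of_res_eq_off [Algebra.FormallySmooth B' C] (h : IsRep ev)
    (hC : FibConn B K C (B' := B')) {ε : K ⊗[B] W}
    (hε : IsIdempotentElem ε) (m : MaximalSpectrum (B' ⊗[B] K)) (w₁ w₂ : W →ₐ[B] K)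
    (hw : ∀ m', m' ≠ m → ∀ c, res B B' K m' (push ev w₁ c) = res B B' K m' (push ev w₂ c)) :
    val w₁ ε = val w₂ ε := by
  classical
  obtain ⟨T, _, _, τ, hτ1, hτ2, hτ3⟩ := hC m
  let _ : Algebra B T := ((algebraMap K T).comp (algebraMap B K)).toAlgebra
  have : IsScalarTower B K T := IsScalarTower.of_algebraMap_eq fun _ => rfl
  let Ψ : MaximalSpectrum (B' ⊗[B] K) → (C →+* T) := fun m' =>
    if m' = m then τ else (algebraMap K T).comp ((res B B' K m').comp (push ev w₁).toRingHom)
  have hΨ1 : Ψ m = τ := if_pos rfl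
  have hΨ2 : ∀ m', m' ≠ m → Ψ m' =
    (algebraMap K T).comp ((res B B' K m').comp (push ev w₁).toRingHom) := fun m' hm' => if_neg hm'
  obtain ⟨w, hw'⟩ := exists_of_family h T Ψ (fun m' b => by
    by_cases hm : m' = m
    · subst hm; rw [hΨ1, hτ1]
    · rw [hΨ2 m' hm]
      exact congrArg (algebraMap K T) (res_push_algebraMap w₁ m' b))
  obtain ⟨g₁, hg₁⟩ := hτ3 ((res B B' K m).comp (push ev w₁).toRingHom)
    (fun b => res_push_algebraMap w₁ m b)
  obtain ⟨g₂, hg₂⟩ := hτ3 ((res B B' K m).comp (push ev w₂).toRingHom)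
    (fun b => res_push_algebraMap w₂ m b)
  have e1 : val w₁ ε = val ((g₁.restrictScalars B).comp w) ε := by
    apply val_eq_of_res_eq h hε
    intro m' c
    rw [res_push_comp, hw']
    by_cases hm : m' = m
    · subst hm; rw [hΨ1, hg₁]; rfl
    · rw [hΨ2 m' hm]
      exact (g₁.commutes _).symm
  have e2 : val w₂ ε = val ((g₂.restrictScalars B).comp w) ε := by
    apply val_eq_of_res_eq h hε
    intro m' c
    rw [res_push_comp, hw']
    by_cases hm : m' = m
    · subst hm; rw [hΨ1, hg₂]; rfl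
    · rw [hΨ2 m' hm, ← hw m' hm]
      exact (g₂.commutes _).symm
  have h3 : IsIdempotentElem (val (T := T) w ε) := hε.map _
  rw [e1, e2, val_comp, val_comp]
  rcases hτ2 _ h3 with h4 | h4
  · rw [h4, map_zero, map_zero]
  · rw [h4, map_one, map_one]

/-- Any two points give the same value of an idempotent. -/
theorem val_eq [Algebra.FormallySmooth B' C] (h : IsRep ev)
    (hC : FibConn B K C (B' := B')) {ε : K ⊗[B] W}
    (hε : IsIdempotentElem ε) (w₁ w₂ : W →ₐ[B] K) : val w₁ ε = val w₂ ε := by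
  classical
  have hart : IsArtinianRing (B' ⊗[B] K) := isArtinianRing B B' K
  have := Fintype.ofFinite (MaximalSpectrum (B' ⊗[B] K))
  have key : ∀ (S : Finset (MaximalSpectrum (B' ⊗[B] K))) (w₁ w₂ : W →ₐ[B] K),
      (∀ m', m' ∉ S → ∀ c, res B B' K m' (push ev w₁ c) = res B B' K m' (push ev w₂ c)) →
      val w₁ ε = val w₂ ε := by
    intro S
    induction S using Finset.induction_on with
    | empty =>
      intro w₁ w₂ hw
      exact val_eq_of_res_eq h hε w₁ w₂ fun m c => hw m (Finset.notMem_empty _) c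
    | insert m S hm ih =>
      intro w₁ w₂ hw
      let Ψ : MaximalSpectrum (B' ⊗[B] K) → (C →+* K) := fun m' =>
        if m' = m then (res B B' K m').comp (push ev w₂).toRingHom else
          (res B B' K m').comp (push ev w₁).toRingHom
      have hΨ1 : Ψ m = (res B B' K m).comp (push ev w₂).toRingHom := if_pos rfl
      have hΨ2 : ∀ m', m' ≠ m → Ψ m' = (res B B' K m').comp (push ev w₁).toRingHom :=
        fun m' hm' => if_neg hm'
      obtain ⟨w₃, hw₃⟩ := exists_of_family h K Ψ (fun m' b => by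
        by_cases hm : m' = m
        · subst hm; rw [hΨ1]; exact res_push_algebraMap w₂ m' b
        · rw [hΨ2 m' hm]; exact res_push_algebraMap w₁ m' b)
      have e1 : val w₁ ε = val w₃ ε := by
        apply val_eq_of_res_eq_off h hC hε m
        intro m' hm' c
        rw [← rT_self, ← rT_self, hw₃, hΨ2 m' hm', rT_self]; rfl
      have e2 : val w₃ ε = val w₂ ε := by
        apply ih
        intro m' hm' c
        rw [← rT_self, hw₃]
        by_cases hmm : m' = m
        · subst hmm; rw [hΨ1]; rfl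
        · rw [hΨ2 m' hmm]
          exact hw m' (by simp [hmm, hm']) c
      exact e1.trans e2
  exact key Finset.univ w₁ w₂ fun m' hm' => absurd (Finset.mem_univ m') hm'

/-- A nonzero idempotent of a finitely generated algebra over an algebraically closed field
takes the value one. -/
lemma exists_point_one (K A : Type u) [Field K] [IsAlgClosed K] [CommRing A] [Algebra K A]
    [Algebra.FiniteType K A] (ε : A) (hε : IsIdempotentElem ε) (h0 : ε ≠ 0) :
    ∃ a : A →ₐ[K] K, a ε = 1 := by
  have h1 : Nontrivial (A ⧸ Ideal.span {1 - ε}) := by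
    rw [Ideal.Quotient.nontrivial_iff, Ne, Ideal.span_singleton_eq_top]
    intro h2
    have h3 : (1 - ε) * ε = 0 := by rw [sub_mul, one_mul, hε.eq, sub_self]
    exact h0 ((h2.mul_right_eq_zero).1 h3)
  obtain ⟨a⟩ := exists_point K (A ⧸ Ideal.span {1 - ε})
  refine ⟨a.comp (Ideal.Quotient.mkₐ K _), ?_⟩
  have h2 : Ideal.Quotient.mk (Ideal.span {1 - ε}) ε = 1 := by
    rw [← map_one (Ideal.Quotient.mk (Ideal.span {1 - ε})), Ideal.Quotient.mk_eq_mk_iff_sub_mem]
    have h5 : ε - 1 = (-1) * (1 - ε) := by ring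
    rw [h5]
    exact Ideal.mul_mem_left _ _ (Ideal.subset_span (Set.mem_singleton _))
  rw [AlgHom.comp_apply, Ideal.Quotient.mkₐ_eq_mk, h2, map_one]

/-- Idempotents of `K ⊗ W` are trivial. -/
theorem idem_trivial [Algebra.FormallySmooth B' C] [Algebra.FiniteType B W] (h : IsRep ev)
    (hC : FibConn B K C (B' := B')) (ε : K ⊗[B] W) (hε : IsIdempotentElem ε) :
    ε = 0 ∨ ε = 1 := by
  by_contra hcon
  rw [not_or] at hcon
  obtain ⟨a₁, ha₁⟩ := exists_point_one K (K ⊗[B] W) ε hε hcon.1
  obtain ⟨a₂, ha₂⟩ := exists_point_one K (K ⊗[B] W) (1 - ε) hε.one_sub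
    (fun h => hcon.2 (sub_eq_zero.1 h).symm)
  have key : ∀ a : K ⊗[B] W →ₐ[K] K,
      val ((a.restrictScalars B).comp Algebra.TensorProduct.includeRight) = a := by
    intro a
    ext x
    simp [val_tmul]
  have h1 := val_eq h hC hε ((a₁.restrictScalars B).comp Algebra.TensorProduct.includeRight)
    ((a₂.restrictScalars B).comp Algebra.TensorProduct.includeRight)
  rw [key, key, ha₁] at h1
  rw [map_sub, map_one, ← h1, sub_self] at ha₂
  exact zero_ne_one ha₂

end Rep

end K541.WeilConn
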