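import Groth.Agent.PRed.K541.WeilSmooth
import Mathlib.RingTheory.Artinian.Module
import Mathlib.RingTheory.Nullstellensatz
import Mathlib.RingTheory.Jacobson.Ring
import Mathlib.FieldTheory.IsAlgClosed.Basic
import Mathlib.RingTheory.Spectrum.Prime.RingHom
import Mathlib.RingTheory.Flat.FaithfullyFlat.Basic

/-!
# Points of the Weil restriction over algebraically closed fields
-/

set_option autoImplicit false
universe u
open TensorProduct

namespace K541.WeilPts

open K541.WeilAlg K541.WeilSmooth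

/-- Nullstellensatz: a nontrivial algebra of finite type has a rational point. -/
lemma exists_point (K B : Type u) [Field K] [IsAlgClosed K] [CommRing B] [Algebra K B]
    [Algebra.FiniteType K B] [Nontrivial B] : Nonempty (B →ₐ[K] K) := by
  obtain ⟨m, hm⟩ := Ideal.exists_maximal B
  let _ := Ideal.Quotient.field m
  have : Module.Finite K (B ⧸ m) := finite_of_finite_type_of_isJacobsonRing K (B ⧸ m)
  have hbij : Function.Bijective (algebraMap K (B ⧸ m)) :=
    IsAlgClosed.algebraMap_bijective_of_isIntegral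
  exact ⟨((AlgEquiv.ofBijective (Algebra.ofId K (B ⧸ m)) hbij).symm : (B ⧸ m) →ₐ[K] K).comp
    (Ideal.Quotient.mkₐ K m)⟩

/-- Points of algebras of finite type over algebraically closed field-valued points. -/
lemma exists_lift_point {A S K : Type u} [CommRing A] [CommRing S] [Algebra A S]
    [Algebra.FiniteType A S] [Field K] [IsAlgClosed K] [Algebra A K]
    (q : PrimeSpectrum S) (hq : q.asIdeal.comap (algebraMap A S) = RingHom.ker (algebraMap A K)) :
    Nonempty (S →ₐ[A] K) := by
  let p : Ideal A := RingHom.ker (algebraMap A K)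
  have hp : p.IsPrime := RingHom.ker_isPrime _
  let g : p.ResidueField →+* K := Ideal.ResidueField.lift p (algebraMap A K) le_rfl (by
    intro x hx
    have : algebraMap A K x ≠ 0 := hx
    exact this.isUnit)
  let _ : Algebra p.ResidueField K := g.toAlgebra
  have : IsScalarTower A p.ResidueField K := IsScalarTower.of_algebraMap_eq fun x => by
    exact (Ideal.ResidueField.lift_algebraMap (I := p) _ _ _ x).symm
  have h1 : Nontrivial (p.ResidueField ⊗[A] S) := by
    have := PrimeSpectrum.nontrivial_iff_mem_rangeComap (S := S) (⟨p, hp⟩ : PrimeSpectrum A)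
    rw [this]
    exact ⟨q, PrimeSpectrum.ext hq⟩
  have h2 : Nontrivial (K ⊗[p.ResidueField] (p.ResidueField ⊗[A] S)) := inferInstance
  let e := Algebra.TensorProduct.cancelBaseChange A p.ResidueField K K S
  have h3 : Nontrivial (K ⊗[A] S) := e.injective.nontrivial
  obtain ⟨φ⟩ := exists_point K (K ⊗[A] S)
  exact ⟨(φ.restrictScalars A).comp Algebra.TensorProduct.includeRight⟩

section Artin

variable (B B' K : Type u) [CommRing B] [CommRing B'] [Algebra B B'] [Module.Finite B B']
  [Field K] [Algebra B K]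

/-- `B' ⊗ K` is artinian. -/
lemma isArtinianRing : IsArtinianRing (B' ⊗[B] K) := by
  have h1 : IsArtinianRing (K ⊗[B] B') := IsArtinianRing.of_finite K (K ⊗[B] B')
  exact Function.Surjective.isArtinianRing
    (f := (Algebra.TensorProduct.comm B K B' : (K ⊗[B] B') →+* (B' ⊗[B] K)))
    (Algebra.TensorProduct.comm B K B').surjective

/-- Residue fields of `B' ⊗ K` are `K`, for `K` algebraically closed. -/
lemma residue_bijective [IsAlgClosed K] (m : Ideal (B' ⊗[B] K)) [m.IsMaximal] :
    Function.Bijective ((Ideal.Quotient.mk m).comp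
      (Algebra.TensorProduct.includeRight : K →ₐ[B] B' ⊗[B] K).toRingHom) := by
  let _ := Ideal.Quotient.field m
  let ρ : K →+* ((B' ⊗[B] K) ⧸ m) := (Ideal.Quotient.mk m).comp
    (Algebra.TensorProduct.includeRight : K →ₐ[B] B' ⊗[B] K).toRingHom
  have h1 : (algebraMap K (K ⊗[B] B')).IsIntegral := by
    have : Algebra.IsIntegral K (K ⊗[B] B') := inferInstance
    exact this.isIntegral
  have h2 : ρ.IsIntegral := by
    have h3 : ρ = ((Ideal.Quotient.mk m).comp
        (Algebra.TensorProduct.comm B K B' : (K ⊗[B] B') →+* (B' ⊗[B] K))).comp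
        (algebraMap K (K ⊗[B] B')) := by
      ext x
      simp [ρ]
    rw [h3]
    refine h1.trans _ _ ?_
    apply RingHom.isIntegral_of_surjective
    exact Ideal.Quotient.mk_surjective.comp (Algebra.TensorProduct.comm B K B').surjective
  let _ : Algebra K ((B' ⊗[B] K) ⧸ m) := ρ.toAlgebra
  have : Algebra.IsIntegral K ((B' ⊗[B] K) ⧸ m) := ⟨h2⟩
  exact IsAlgClosed.algebraMap_bijective_of_isIntegral (k := K) (K := (B' ⊗[B] K) ⧸ m)

end Artin

section Product

/-- The map from an artinian ring to the product of its residue fields. -/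
noncomputable def toRes (R E : Type u) [CommRing R] [CommRing E] [Algebra R E] :
    E →ₐ[R] (∀ m : MaximalSpectrum E, E ⧸ m.asIdeal) :=
  AlgHom.pi fun m => Ideal.Quotient.mkₐ R m.asIdeal

variable {R E : Type u} [CommRing R] [CommRing E] [Algebra R E]

@[simp] lemma toRes_apply (x : E) (m : MaximalSpectrum E) :
    toRes R E x m = Ideal.Quotient.mk m.asIdeal x := rfl

lemma toRes_surjective [IsArtinianRing E] : Function.Surjective (toRes R E) := by
  intro y
  obtain ⟨z, hz⟩ := (IsArtinianRing.quotNilradicalEquivPi E).surjective y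
  obtain ⟨z, rfl⟩ := Ideal.Quotient.mk_surjective z
  refine ⟨z, ?_⟩
  rw [← hz]
  rfl

lemma isNilpotent_ker_toRes [IsArtinianRing E] :
    IsNilpotent (RingHom.ker (toRes R E : E →+* (∀ m : MaximalSpectrum E, E ⧸ m.asIdeal))) := by
  obtain ⟨n, hn⟩ := IsArtinianRing.isNilpotent_nilradical (R := E)
  refine ⟨n, ?_⟩
  have hle : RingHom.ker (toRes R E : E →+* (∀ m : MaximalSpectrum E, E ⧸ m.asIdeal)) ≤
      nilradical E := by
    intro x hx
    rw [IsArtinianRing.nilradical_eq_iInf, Ideal.mem_iInf]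
    intro m
    exact Ideal.Quotient.eq_zero_iff_mem.1 (congrFun hx m)
  have h2 := Ideal.pow_right_mono hle n
  rw [hn] at h2
  exact le_bot_iff.1 h2

end Product

variable {B B' C W : Type u} [CommRing B] [CommRing B'] [Algebra B B'] [CommRing C] [Algebra B' C]
  [CommRing W] [Algebra B W]

/-- Every geometric point of `X'` lifts to a geometric point of `R ×_B B'`. -/
theorem exists_lift_geomPt [Module.Finite B B'] [Algebra.FormallySmooth B' C]
    [Algebra.FiniteType B' C]
    (hsurj : Function.Surjective (PrimeSpectrum.comap (algebraMap B' C)))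
    {ev : C →ₐ[B'] B' ⊗[B] W} (h : IsRep ev)
    (K : Type u) [Field K] [IsAlgClosed K] [Algebra B K] [Algebra B' K] [IsScalarTower B B' K]
    (c₀ : C →ₐ[B'] K) : ∃ w : W →ₐ[B] K, (mu B B' K).comp (push ev w) = c₀ := by
  have hart : IsArtinianRing (B' ⊗[B] K) := isArtinianRing B B' K
  have hc : ∀ m : MaximalSpectrum (B' ⊗[B] K), ∃ c : C →ₐ[B'] (B' ⊗[B] K) ⧸ m.asIdeal,
      m.asIdeal = RingHom.ker (mu B B' K) → ∀ x, c x = Ideal.Quotient.mk m.asIdeal (1 ⊗ₜ c₀ x) := by
    intro m
    have hm := m.isMaximal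
    let _ := Ideal.Quotient.field m.asIdeal
    let ρ : K →+* ((B' ⊗[B] K) ⧸ m.asIdeal) := (Ideal.Quotient.mk m.asIdeal).comp
      (Algebra.TensorProduct.includeRight : K →ₐ[B] B' ⊗[B] K).toRingHom
    have hρ : Function.Bijective ρ := residue_bijective B B' K m.asIdeal
    by_cases hk : m.asIdeal = RingHom.ker (mu B B' K)
    · refine ⟨{ toRingHom := ρ.comp c₀.toRingHom
                commutes' := fun x => ?_ }, fun _ x => rfl⟩
      change ρ (c₀ (algebraMap B' C x)) = _
      rw [AlgHom.commutes]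
      change Ideal.Quotient.mk m.asIdeal (1 ⊗ₜ algebraMap B' K x) =
        Ideal.Quotient.mk m.asIdeal (x ⊗ₜ 1)
      rw [Ideal.Quotient.mk_eq_mk_iff_sub_mem, hk, RingHom.mem_ker, map_sub, mu_tmul, mu_tmul]
      simp
    · have hcl : IsAlgClosed ((B' ⊗[B] K) ⧸ m.asIdeal) :=
        IsAlgClosed.of_ringEquiv K _ (RingEquiv.ofBijective ρ hρ)
      obtain ⟨q, hq⟩ := hsurj ⟨RingHom.ker (algebraMap B' ((B' ⊗[B] K) ⧸ m.asIdeal)),
        RingHom.ker_isPrime _⟩
      obtain ⟨c⟩ := exists_lift_point (A := B') (S := C) (K := (B' ⊗[B] K) ⧸ m.asIdeal) q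
        (congrArg PrimeSpectrum.asIdeal hq)
      exact ⟨c, fun h => absurd h hk⟩
  choose c hc using hc
  let ψ : C →ₐ[B'] (∀ m : MaximalSpectrum (B' ⊗[B] K), (B' ⊗[B] K) ⧸ m.asIdeal) := AlgHom.pi c
  let φ : C →ₐ[B'] B' ⊗[B] K := Algebra.FormallySmooth.liftOfSurjective ψ (toRes B' (B' ⊗[B] K))
    toRes_surjective isNilpotent_ker_toRes
  have hφ : ∀ x, toRes B' (B' ⊗[B] K) (φ x) = ψ x :=
    Algebra.FormallySmooth.liftOfSurjective_apply _ _ _ _
  obtain ⟨w, hw⟩ := (h K).2 φ
  dsimp only at hw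
  refine ⟨w, ?_⟩
  rw [hw]
  ext x
  have hmax : (RingHom.ker (mu B B' K)).IsMaximal :=
    RingHom.ker_isMaximal_of_surjective _ (mu_surjective K)
  have h1 := congrFun (hφ x) ⟨_, hmax⟩
  have h2 : Ideal.Quotient.mk (RingHom.ker (mu B B' K)) (φ x) =
      Ideal.Quotient.mk (RingHom.ker (mu B B' K)) (1 ⊗ₜ c₀ x) :=
    h1.trans (hc ⟨_, hmax⟩ rfl x)
  rw [Ideal.Quotient.mk_eq_mk_iff_sub_mem, RingHom.mem_ker, map_sub, sub_eq_zero, mu_tmul,
    map_one, one_mul] at h2
  exact h2

/-- `Spec (B' ⊗ W) → Spec C` is surjective. -/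
theorem spec_surjective [Module.Finite B B'] [Algebra.FormallySmooth B' C]
    [Algebra.FiniteType B' C]
    (hsurj : Function.Surjective (PrimeSpectrum.comap (algebraMap B' C)))
    {ev : C →ₐ[B'] B' ⊗[B] W} (h : IsRep ev) :
    Function.Surjective (PrimeSpectrum.comap (ev : C →+* B' ⊗[B] W)) := by
  intro p
  obtain ⟨K, _, _, χ, hχ⟩ : ∃ (K : Type u) (_ : Field K) (_ : IsAlgClosed K) (χ : C →+* K),
      RingHom.ker χ = p.asIdeal := by
    refine ⟨AlgebraicClosure p.asIdeal.ResidueField, inferInstance, inferInstance,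
      (algebraMap p.asIdeal.ResidueField (AlgebraicClosure p.asIdeal.ResidueField)).comp
        (algebraMap C p.asIdeal.ResidueField), ?_⟩
    ext x
    rw [RingHom.mem_ker, RingHom.comp_apply, map_eq_zero_iff _ (RingHom.injective _),
      Ideal.algebraMap_residueField_eq_zero]
  let _ : Algebra B' K := (χ.comp (algebraMap B' C)).toAlgebra
  let _ : Algebra B K := ((algebraMap B' K).comp (algebraMap B B')).toAlgebra
  have _ : IsScalarTower B B' K := IsScalarTower.of_algebraMap_eq fun _ => rfl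
  let c₀ : C →ₐ[B'] K := { toRingHom := χ, commutes' := fun _ => rfl }
  obtain ⟨w, hw⟩ := exists_lift_geomPt hsurj h K c₀
  let g : B' ⊗[B] W →ₐ[B'] K := (mu B B' K).comp (Algebra.TensorProduct.map (AlgHom.id B' B') w)
  refine ⟨⟨RingHom.ker g, RingHom.ker_isPrime _⟩, ?_⟩
  apply PrimeSpectrum.ext
  rw [← hχ]
  ext x
  change g (ev x) = 0 ↔ χ x = 0
  have h1 : g (ev x) = χ x := DFunLike.congr_fun hw x
  rw [h1]

end K541.WeilPts
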