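import Groth.Agent.PRed.K541.WeilAlg
import Mathlib.RingTheory.Smooth.Basic
import Mathlib.RingTheory.Artinian.Ring
import Mathlib.RingTheory.Nullstellensatz

/-!
# Smoothness of the Weil restriction of a smooth algebra and of the universal point
-/

set_option autoImplicit false
universe u
open TensorProduct

namespace K541.WeilSmooth

open K541.WeilAlg

section Kernel

variable (B' : Type u) {B T T' : Type u} [CommRing B] [CommRing B'] [Algebra B B'] [CommRing T]
  [Algebra B T] [CommRing T'] [Algebra B T']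

lemma map_surjective (q : T →ₐ[B] T') (hq : Function.Surjective q) :
    Function.Surjective (Algebra.TensorProduct.map (AlgHom.id B' B') q) := by
  intro z
  induction z with
  | zero => exact ⟨0, map_zero _⟩
  | tmul x t =>
    obtain ⟨s, rfl⟩ := hq t
    exact ⟨x ⊗ₜ s, by simp⟩
  | add x y hx hy =>
    obtain ⟨a, rfl⟩ := hx
    obtain ⟨b, rfl⟩ := hy
    exact ⟨a + b, map_add _ _ _⟩

lemma ker_map (q : T →ₐ[B] T') (hq : Function.Surjective q) :
    RingHom.ker (Algebra.TensorProduct.map (AlgHom.id B' B') q) =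
      (RingHom.ker q).map (Algebra.TensorProduct.includeRight : T →ₐ[B] B' ⊗[B] T) := by
  rw [← Algebra.TensorProduct.lTensor_ker q hq]
  ext z
  simp only [RingHom.mem_ker]
  have : ∀ z, Algebra.TensorProduct.map (AlgHom.id B' B') q z =
      Algebra.TensorProduct.map (AlgHom.id B B') q z := by
    intro z
    induction z with
    | zero => simp
    | tmul x t => simp
    | add x y hx hy => rw [map_add, map_add, hx, hy]
  rw [this]

lemma ker_map_pow (q : T →ₐ[B] T') (hq : Function.Surjective q) (n : ℕ)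
    (hn : RingHom.ker q ^ n = ⊥) :
    RingHom.ker (Algebra.TensorProduct.map (AlgHom.id B' B') q) ^ n = ⊥ := by
  rw [ker_map B' q hq, ← Ideal.map_pow, hn, Ideal.map_bot]

lemma isNilpotent_ker_map (q : T →ₐ[B] T') (hq : Function.Surjective q)
    (hn : IsNilpotent (RingHom.ker (q : T →+* T'))) :
    IsNilpotent (RingHom.ker
      (Algebra.TensorProduct.map (AlgHom.id B' B') q : B' ⊗[B] T →+* B' ⊗[B] T')) := by
  obtain ⟨n, hn⟩ := hn
  exact ⟨n, ker_map_pow B' q hq n hn⟩

end Kernel

variable {B B' C W : Type u} [CommRing B] [CommRing B'] [Algebra B B'] [CommRing C] [Algebra B' C]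
  [CommRing W] [Algebra B W]

/-- Lifting of points of the Weil restriction of a formally smooth algebra. -/
theorem exists_lift [Algebra.FormallySmooth B' C] {ev : C →ₐ[B'] B' ⊗[B] W} (h : IsRep ev)
    {T T' : Type u} [CommRing T] [Algebra B T] [CommRing T'] [Algebra B T'] (q : T →ₐ[B] T')
    (hq : Function.Surjective q) (hn : IsNilpotent (RingHom.ker (q : T →+* T')))
    (w : W →ₐ[B] T') : ∃ w' : W →ₐ[B] T, q.comp w' = w := by
  let φ : C →ₐ[B'] B' ⊗[B] T := Algebra.FormallySmooth.liftOfSurjective (push ev w)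
    (Algebra.TensorProduct.map (AlgHom.id B' B') q) (map_surjective B' q hq)
    (isNilpotent_ker_map B' q hq hn)
  have hφ : (Algebra.TensorProduct.map (AlgHom.id B' B') q).comp φ = push ev w :=
    Algebra.FormallySmooth.comp_liftOfSurjective _ _ _ _
  obtain ⟨w', hw'⟩ := (h T).2 φ
  dsimp only at hw'
  refine ⟨w', ?_⟩
  apply (h T').1
  dsimp only
  rw [push_comp, hw', hφ]

/-- The Weil restriction of a formally smooth algebra is formally smooth. -/
theorem formallySmooth_base [Algebra.FormallySmooth B' C] {ev : C →ₐ[B'] B' ⊗[B] W}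
    (h : IsRep ev) : Algebra.FormallySmooth B W := by
  apply Algebra.FormallySmooth.of_comp_surjective
  intro T _ _ I hI w
  have hker : RingHom.ker (Ideal.Quotient.mkₐ B I : T →+* T ⧸ I) = I := by
    ext x
    exact Ideal.Quotient.eq_zero_iff_mem
  exact exists_lift h (Ideal.Quotient.mkₐ B I) (Ideal.Quotient.mkₐ_surjective B I)
    ⟨2, by rw [hker, hI]; rfl⟩ w

/-- The multiplication map `B' ⊗ A → A` for a `B'`-algebra `A`. -/
noncomputable def mu (B B' A : Type u) [CommRing B] [CommRing B'] [Algebra B B'] [CommRing A]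
    [Algebra B A] [Algebra B' A] [IsScalarTower B B' A] : B' ⊗[B] A →ₐ[B'] A :=
  Algebra.TensorProduct.lift (Algebra.ofId B' A) (AlgHom.id B A) (fun _ _ => Commute.all _ _)

@[simp] lemma mu_tmul (A : Type u) [CommRing A]
    [Algebra B A] [Algebra B' A] [IsScalarTower B B' A] (x : B') (a : A) :
    mu B B' A (x ⊗ₜ a) = algebraMap B' A x * a := by
  simp [mu, Algebra.ofId_apply]

lemma mu_surjective (A : Type u) [CommRing A]
    [Algebra B A] [Algebra B' A] [IsScalarTower B B' A] : Function.Surjective (mu B B' A) :=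
  fun a => ⟨1 ⊗ₜ a, by simp⟩

/-- **Lifting of points of `R_{B'} → X'`**: given a surjection `q : A → A'` of `B'`-algebras with
square-zero (nilpotent) kernel, a point `c : C → A` and a point `w₀ : W → A'` compatible in `A'`,
there is a point `w : W → A` inducing both. -/
theorem exists_lift_counit [Algebra.FormallySmooth B' C] {ev : C →ₐ[B'] B' ⊗[B] W} (h : IsRep ev)
    {A A' : Type u} [CommRing A] [Algebra B A] [Algebra B' A] [IsScalarTower B B' A]
    [CommRing A'] [Algebra B A'] [Algebra B' A'] [IsScalarTower B B' A'] (q : A →ₐ[B'] A')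
    (hq : Function.Surjective q) (hn : IsNilpotent (RingHom.ker (q : A →+* A')))
    (c : C →ₐ[B'] A) (w₀ : W →ₐ[B] A')
    (hc : (mu B B' A').comp (push ev w₀) = q.comp c) :
    ∃ w : W →ₐ[B] A, (q.restrictScalars B).comp w = w₀ ∧ (mu B B' A).comp (push ev w) = c := by
  let q₀ : A →ₐ[B] A' := q.restrictScalars B
  have hq₀ : Function.Surjective q₀ := hq
  let Q : B' ⊗[B] A →ₐ[B'] B' ⊗[B] A' := Algebra.TensorProduct.map (AlgHom.id B' B') q₀
  have hQ : Function.Surjective Q := map_surjective B' q₀ hq₀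
  have hQn : IsNilpotent (RingHom.ker (Q : B' ⊗[B] A →+* B' ⊗[B] A')) :=
    isNilpotent_ker_map B' q₀ hq₀ hn
  have hμQ : ∀ z, mu B B' A' (Q z) = q (mu B B' A z) := by
    intro z
    induction z with
    | zero => simp
    | tmul x a => simp [Q, q₀]
    | add x y hx hy => simp only [map_add, hx, hy]
  let P : B' ⊗[B] A →ₐ[B'] (B' ⊗[B] A') × A := Q.prod (mu B B' A)
  let ψ : C →ₐ[B'] (B' ⊗[B] A') × A := (push ev w₀).prod c
  have hψ : ∀ x, ψ x ∈ P.range := by
    intro x
    obtain ⟨z, hz⟩ := hQ (push ev w₀ x)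
    refine ⟨z - 1 ⊗ₜ (mu B B' A z - c x), ?_⟩
    have h1 : q (mu B B' A z - c x) = 0 := by
      rw [map_sub, ← hμQ, hz, sub_eq_zero]
      exact DFunLike.congr_fun hc x
    refine Prod.ext ?_ ?_
    · change Q (z - 1 ⊗ₜ (mu B B' A z - c x)) = push ev w₀ x
      have h2 : Q (1 ⊗ₜ (mu B B' A z - c x)) = 1 ⊗ₜ q (mu B B' A z - c x) := by
        simp [Q, q₀]
      rw [map_sub, hz, h2, h1, TensorProduct.tmul_zero, sub_zero]
    · change mu B B' A (z - 1 ⊗ₜ (mu B B' A z - c x)) = c x
      rw [map_sub, mu_tmul, map_one, one_mul, sub_sub_cancel]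
  let Ψ : C →ₐ[B'] P.range := ψ.codRestrict P.range hψ
  have hPn : IsNilpotent (RingHom.ker (P.rangeRestrict : B' ⊗[B] A →+* P.range)) := by
    obtain ⟨n, hn⟩ := hQn
    refine ⟨n, ?_⟩
    have hle : RingHom.ker (P.rangeRestrict : B' ⊗[B] A →+* P.range) ≤
        RingHom.ker (Q : B' ⊗[B] A →+* B' ⊗[B] A') := by
      intro z hz
      rw [RingHom.mem_ker] at hz ⊢
      have h1 : P z = 0 := congrArg Subtype.val hz
      exact congrArg Prod.fst h1
    have h2 := Ideal.pow_right_mono hle n
    have h3 : RingHom.ker (Q : B' ⊗[B] A →+* B' ⊗[B] A') ^ n = ⊥ := hn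
    rw [h3] at h2
    exact le_bot_iff.1 h2
  let φ : C →ₐ[B'] B' ⊗[B] A := Algebra.FormallySmooth.liftOfSurjective Ψ P.rangeRestrict
    P.rangeRestrict_surjective hPn
  have hφ : ∀ x, P (φ x) = ψ x := fun x =>
    congrArg Subtype.val (Algebra.FormallySmooth.liftOfSurjective_apply Ψ P.rangeRestrict
      P.rangeRestrict_surjective hPn x)
  obtain ⟨w, hw⟩ := (h A).2 φ
  dsimp only at hw
  refine ⟨w, ?_, ?_⟩
  · apply (h A').1
    dsimp only
    rw [push_comp, hw]
    ext x
    exact congrArg Prod.fst (hφ x)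
  · rw [hw]
    ext x
    exact congrArg Prod.snd (hφ x)

/-- The universal point `C → B' ⊗ W` of a formally smooth algebra is formally smooth. -/
theorem formallySmooth_counit [Algebra.FormallySmooth B' C] {ev : C →ₐ[B'] B' ⊗[B] W}
    (h : IsRep ev) : letI := ev.toRingHom.toAlgebra; Algebra.FormallySmooth C (B' ⊗[B] W) := by
  letI := ev.toRingHom.toAlgebra
  change Algebra.FormallySmooth C (B' ⊗[B] W)
  apply Algebra.FormallySmooth.of_comp_surjective
  intro A _ _ J hJ g
  let _ : Algebra B' A := ((algebraMap C A).comp (algebraMap B' C)).toAlgebra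
  have _ : IsScalarTower B' C A := IsScalarTower.of_algebraMap_eq fun _ => rfl
  let _ : Algebra B A := ((algebraMap B' A).comp (algebraMap B B')).toAlgebra
  have _ : IsScalarTower B B' A := IsScalarTower.of_algebraMap_eq fun _ => rfl
  let _ : Algebra B' (A ⧸ J) := Ideal.Quotient.algebra B'
  let _ : Algebra B (A ⧸ J) := Ideal.Quotient.algebra B
  have _ : IsScalarTower B B' (A ⧸ J) := IsScalarTower.of_algebraMap_eq fun _ => rfl
  let q : A →ₐ[B'] A ⧸ J := Ideal.Quotient.mkₐ B' J
  have hg : ∀ x : C, g (ev x) = algebraMap C (A ⧸ J) x := fun x => g.commutes x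
  have hg' : ∀ x : B', g (x ⊗ₜ 1) = algebraMap B' (A ⧸ J) x := by
    intro x
    have h1 := hg (algebraMap B' C x)
    rw [AlgHom.commutes] at h1
    exact h1
  let w₀ : W →ₐ[B] A ⧸ J :=
    { toRingHom := (g : B' ⊗[B] W →+* A ⧸ J).comp
        (Algebra.TensorProduct.includeRight : W →ₐ[B] B' ⊗[B] W).toRingHom
      commutes' := fun b => by
        change g (Algebra.TensorProduct.includeRight (algebraMap B W b)) = _
        rw [AlgHom.commutes, IsScalarTower.algebraMap_apply B B' (B' ⊗[B] W)]
        change g ((algebraMap B B' b) ⊗ₜ 1) = _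
        rw [hg']
        rfl }
  have hw₀ : ∀ x : W, w₀ x = g (1 ⊗ₜ x) := fun x => rfl
  have hgz : ∀ z : B' ⊗[B] W, g z = mu B B' (A ⧸ J)
      (Algebra.TensorProduct.map (AlgHom.id B' B') w₀ z) := by
    intro z
    induction z with
    | zero => simp
    | tmul x y =>
      rw [Algebra.TensorProduct.map_tmul, mu_tmul, AlgHom.id_apply, hw₀, ← hg', ← map_mul,
        Algebra.TensorProduct.tmul_mul_tmul, mul_one, one_mul]
    | add x y hx hy => simp only [map_add, hx, hy]
  have hker : RingHom.ker (q : A →+* A ⧸ J) = J := by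
    ext x
    exact Ideal.Quotient.eq_zero_iff_mem
  obtain ⟨w, hw1, hw2⟩ := exists_lift_counit h q Ideal.Quotient.mk_surjective
    ⟨2, by rw [hker, hJ]; rfl⟩ (IsScalarTower.toAlgHom B' C A) w₀ (by
      ext x
      change mu B B' (A ⧸ J) (push ev w₀ x) = q (algebraMap C A x)
      rw [push_apply, ← hgz, hg]
      rfl)
  let G₀ : B' ⊗[B] W →ₐ[B'] A :=
    (mu B B' A).comp (Algebra.TensorProduct.map (AlgHom.id B' B') w)
  let G : B' ⊗[B] W →ₐ[C] A :=
    { toRingHom := G₀.toRingHom
      commutes' := fun x => DFunLike.congr_fun hw2 x }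
  refine ⟨G, ?_⟩
  ext z
  change Ideal.Quotient.mk J (G₀ z) = g z
  rw [hgz]
  change q (mu B B' A (Algebra.TensorProduct.map (AlgHom.id B' B') w z)) = _
  induction z with
  | zero => simp
  | tmul x y =>
    rw [Algebra.TensorProduct.map_tmul, Algebra.TensorProduct.map_tmul, mu_tmul, mu_tmul, map_mul,
      AlgHom.commutes]
    congr 1
    exact DFunLike.congr_fun hw1 y
  | add x y hx hy => simp only [map_add, hx, hy]

end K541.WeilSmooth
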